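import Groth.Agent.CurvOpenLib.Basic
import Groth.Agent.DepthLib.SmoothBCScheme
import Groth.Agent.Unram17Lib.FibreMap
import Groth.Agent.AlgSpLib.RelDim2
import Groth.Agent.FibDimLib.Smooth
import Groth.Agent.FibDimLib.Apps

/-!
# Smoothness of families of curves is a good condition
-/

set_option autoImplicit false
set_option linter.style.haveILetI false
set_option backward.isDefEq.respectTransparency.types false
universe u

open CategoryTheory CategoryTheory.Limits AlgebraicGeometry AlgSp AlgSpLib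

namespace CurvOpenLib

/-- Smooth near a point. -/
def SmoothNear {U V : Scheme.{u}} (h : U ⟶ V) (u : U) : Prop := ∃ W : U.Opens, u ∈ W ∧ Smooth (W.ι ≫ h)

theorem good_smooth : GoodProp.{u} (fun h u => SmoothNear h u) where
  srcEt {U' U V} a h _ _ _ u' := by
    unfold SmoothNear
    constructor
    · rintro ⟨W', hu', hl⟩
      let W : U.Opens := ⟨a.base '' W', a.isOpenMap _ W'.2⟩
      have e : W' ≤ a ⁻¹ᵁ W := fun z hz => ⟨z, hz, rfl⟩
      refine ⟨W, ⟨u', hu', rfl⟩, ?_⟩
      let g : (W' : Scheme.{u}) ⟶ (W : Scheme.{u}) := a.resLE W W' e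
      haveI : Etale g := by
        have : g ≫ W.ι = W'.ι ≫ a := Scheme.Hom.resLE_comp_ι a e
        haveI : Etale (g ≫ W.ι) := by rw [this]; infer_instance
        exact Etale.of_comp g W.ι
      haveI : Surjective g := ⟨fun ⟨w, z, hz, hzw⟩ => ⟨⟨z, hz⟩, Subtype.ext (by
        subst hzw
        exact congrArg (fun φ : (W' : Scheme.{u}) ⟶ U => φ.base ⟨z, hz⟩) (Scheme.Hom.resLE_comp_ι a e))⟩⟩
      refine EtLocProp.srcDescent (P := (@Smooth : MorphismProperty Scheme.{u})) g (W.ι ≫ h) ?_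
      rwa [← Category.assoc, Scheme.Hom.resLE_comp_ι, Category.assoc]
    · rintro ⟨W, hu, hl⟩
      refine ⟨a ⁻¹ᵁ W, hu, ?_⟩
      rw [← Category.assoc, ← a.resLE_comp_ι (le_refl (a ⁻¹ᵁ W)), Category.assoc]
      haveI : Etale (a.resLE W (a ⁻¹ᵁ W) le_rfl) := by
        haveI : Etale (a.resLE W (a ⁻¹ᵁ W) le_rfl ≫ W.ι) := by rw [Scheme.Hom.resLE_comp_ι]; infer_instance
        exact Etale.of_comp _ W.ι
      infer_instance
  tgtEt {U V W} h b _ _ _ u := by
    unfold SmoothNear
    refine exists_congr fun O => and_congr_right fun _ => ⟨fun H => ?_, fun H => ?_⟩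
    · rw [← Category.assoc] at H
      exact EtLocProp.cancel_etale (P := (@Smooth : MorphismProperty Scheme.{u})) (O.ι ≫ h) b H
    · rw [← Category.assoc]
      infer_instance
  baseChange {U V U' V'} h g h' g' _ _ sq u' := by
    haveI : LocallyOfFinitePresentation h' :=
      MorphismProperty.of_isPullback sq ‹LocallyOfFinitePresentation h›
    unfold SmoothNear
    rw [← Unram17Lib.smoothLocus_iff_exists, ← Unram17Lib.smoothLocus_iff_exists,
      DepthLib.smoothLocus_eq_preimage h g h' g' sq (Or.inl inferInstance)]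
    exact Iff.rfl
  isOpen h _ _ := isOpen_iff_forall_mem_open.2 fun _ ⟨W, hu, hW⟩ => ⟨W, fun _ hz => ⟨W, hz, hW⟩, W.2, hu⟩

theorem good_smooth_dim (d : ℕ) :
    GoodProp.{u} (fun h u => SmoothNear h u ∧ FlatMor.fibreDimAt h u = (d : WithBot ℕ∞)) where
  srcEt {U' U V} a h _ _ _ u' := by
    rw [good_smooth.srcEt a h u',
      FibDimLib.fibreDimAt_eq_of_etale_square h (a ≫ h) a (𝟙 V) (Category.comp_id _) u']
  tgtEt {U V W} h b _ _ _ u := by
    rw [good_smooth.tgtEt h b u,
      ← FibDimLib.fibreDimAt_eq_of_etale_square (h ≫ b) h (𝟙 U) b (Category.id_comp _).symm u]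
    exact Iff.rfl
  baseChange {U V U' V'} h g h' g' _ _ sq u' := by
    rw [good_smooth.baseChange h g h' g' sq u', FibDimLib.fibreDimAt_baseChange sq u']
  isOpen {U V} h _ _ := by
    refine isOpen_iff_forall_mem_open.2 fun u hu => ?_
    obtain ⟨W, huW, hW⟩ := hu.1
    obtain ⟨O, n, huO, hn⟩ := AlgSpLib.exists_open_fibreDimAt_of_smooth (W.ι ≫ h) ⟨u, huW⟩
    refine ⟨(W.ι ''ᵁ O : U.Opens), ?_, (W.ι ''ᵁ O).2, ⟨_, huO, rfl⟩⟩
    rintro _ ⟨z, hz, rfl⟩
    refine ⟨⟨W, z.2, hW⟩, ?_⟩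
    exact ((FibDimLib.fibreDimAt_comp_isOpenImmersion W.ι h z).symm.trans
      ((hn z hz).trans (hn ⟨u, huW⟩ huO).symm)).trans
      ((FibDimLib.fibreDimAt_comp_isOpenImmersion W.ι h ⟨u, huW⟩).trans hu.2)

theorem smoothOfRelativeDimension_iff_forall (n : ℕ) {X Y : Scheme.{u}} (f : X ⟶ Y) :
    SmoothOfRelativeDimension n f ↔ Smooth f ∧ ∀ x, FlatMor.fibreDimAt f x = (n : WithBot ℕ∞) := by
  refine ⟨fun h => ⟨SmoothOfRelativeDimension.smooth n f,
    fun x => FibDimLib.fibreDimAt_smoothOfRelativeDimension n f x⟩, fun ⟨_, hd⟩ => ⟨fun x => ?_⟩⟩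
  obtain ⟨U, hU, V, hV, hx, e, h⟩ := Smooth.exists_isStandardSmooth f x
  have h' := h
  unfold RingHom.IsStandardSmooth at h'
  letI := (f.appLE U V e).hom.toAlgebra
  obtain ⟨ι, σ, hσ, hι, ⟨P⟩⟩ := h'.out
  haveI := hσ
  haveI := hι
  have h2 : (f.appLE U V e).hom.IsStandardSmoothOfRelativeDimension P.dimension :=
    Algebra.SubmersivePresentation.isStandardSmoothOfRelativeDimension P rfl
  obtain ⟨g, hg, het⟩ := h2.exists_etale_mvPolynomial
  have hP : P.dimension = n := by
    have := (FibDimLib.fibreDimAt_chart f hU hV e g hg het x hx).symm.trans (hd x)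
    exact_mod_cast this
  exact ⟨U, hU, V, hV, hx, e, hP ▸ h2⟩

theorem allPts_smooth_iff {X Y : Scheme.{u}} (f : X ⟶ Y) : (∀ x, SmoothNear f x) ↔ Smooth f := by
  refine ⟨fun H => ?_, fun H x => ⟨⊤, trivial, inferInstance⟩⟩
  choose W hx hW using H
  exact IsZariskiLocalAtSource.of_iSup_eq_top (P := @Smooth) W
    (top_le_iff.1 fun x _ => TopologicalSpace.Opens.mem_iSup.2 ⟨x, hx x⟩) hW

theorem allPts_smooth_eq : (allPts fun h u => SmoothNear h u) = (@Smooth : MorphismProperty Scheme.{u}) := by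
  funext X Y f
  exact propext (allPts_smooth_iff f)

theorem allPts_smooth_dim_eq (n : ℕ) :
    (allPts fun h u => SmoothNear h u ∧ FlatMor.fibreDimAt h u = (n : WithBot ℕ∞)) =
      ((fun _ _ h => SmoothOfRelativeDimension n h) : MorphismProperty Scheme.{u}) := by
  funext X Y f
  exact propext (forall_and.trans
    ((and_congr_left' (allPts_smooth_iff f)).trans (smoothOfRelativeDimension_iff_forall n f).symm))

end CurvOpenLib
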