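import Groth.Agent.AlgStBig.Locus
import Groth.Agent.AlgSpLib.MorPack
import Groth.Agent.AlgSpLib.HasAt
import Groth.Agent.AlgSpLib.Points
import Groth.Prelude.Def_StCurv2

/-!
# Open substacks of the stack of curves cut out by pointwise conditions on the structure morphism
-/

set_option autoImplicit false
set_option linter.style.haveILetI false
set_option backward.isDefEq.respectTransparency.types false
universe u

open CategoryTheory CategoryTheory.Limits AlgebraicGeometry AlgSp AlgSpLib Topology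

namespace CurvOpenLib

/-- A pointwise condition on flat morphisms locally of finite presentation which is etale local on source and
target, commutes with base change and is open. -/
structure GoodProp (Q : ∀ {U V : Scheme.{u}}, (U ⟶ V) → ↥U → Prop) : Prop where
  srcEt : ∀ {U' U V : Scheme.{u}} (a : U' ⟶ U) (h : U ⟶ V) [Etale a] [Flat h] [LocallyOfFinitePresentation h]
    (u' : U'), Q (a ≫ h) u' ↔ Q h (a.base u')
  tgtEt : ∀ {U V W : Scheme.{u}} (h : U ⟶ V) (b : V ⟶ W) [Etale b] [Flat h] [LocallyOfFinitePresentation h]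
    (u : U), Q (h ≫ b) u ↔ Q h u
  baseChange : ∀ {U V U' V' : Scheme.{u}} (h : U ⟶ V) (g : V' ⟶ V) (h' : U' ⟶ V') (g' : U' ⟶ U)
    [Flat h] [LocallyOfFinitePresentation h], IsPullback g' h' h g → ∀ u' : U', Q h' u' ↔ Q h (g'.base u')
  isOpen : ∀ {U V : Scheme.{u}} (h : U ⟶ V) [Flat h] [LocallyOfFinitePresentation h], IsOpen {u | Q h u}

/-- The property of morphisms of schemes "`Q` at every point". -/
abbrev allPts (Q : ∀ {U V : Scheme.{u}}, (U ⟶ V) → ↥U → Prop) : MorphismProperty Scheme.{u} :=
  fun _ _ g => ∀ x, Q g x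

variable {Q : ∀ {U V : Scheme.{u}}, (U ⟶ V) → ↥U → Prop}
variable {S : Scheme.{u}} {X : Sp S} {T : Over S} {f : X ⟶ (yon S).obj T}

theorem chart_data (hfl : LocP @Flat f) (hlfp : LocP @LocallyOfFinitePresentation f) {U : Over S}
    {r : (yon S).obj U ⟶ X} (hr : RepWith @Etale r) {h : U ⟶ T} (e : r ≫ f = (yon S).map h) :
    Flat h.left ∧ LocallyOfFinitePresentation h.left := by
  have h1 : RepWith @Etale (𝟙 ((yon S).obj T)) := AlgSp.repWith_id _ T
  have e' : r ≫ f = (yon S).map h ≫ 𝟙 _ := e.trans (Category.comp_id _).symm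
  exact ⟨hfl r _ h hr h1 e', hlfp r _ h hr h1 e'⟩

/-- The property is seen on one atlas. -/
theorem locP_iff_atlas (hQ : GoodProp Q) (hfl : LocP @Flat f) (hlfp : LocP @LocallyOfFinitePresentation f)
    {U : Over S} {r : (yon S).obj U ⟶ X} (hr : RepWith @Etale r) (hrs : RepWith @Surjective r) {h : U ⟶ T}
    (e : r ≫ f = (yon S).map h) : LocP (allPts Q) f ↔ ∀ u, Q h.left u := by
  refine ⟨fun H => H r (𝟙 _) h hr (AlgSp.repWith_id _ T) (e.trans (Category.comp_id _).symm), fun H => ?_⟩
  intro U₁ V₁ a b h₁ ha hb e₁ u₁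
  obtain ⟨b', rfl⟩ := (yon S).map_surjective b
  haveI : Etale b'.left := etale_left hb
  haveI : Flat h₁.left := hfl a _ h₁ ha hb e₁
  haveI : LocallyOfFinitePresentation h₁.left := hlfp a _ h₁ ha hb e₁
  obtain ⟨_, _⟩ := chart_data hfl hlfp hr e
  obtain ⟨W, p, q, sq⟩ := exists_isPullback_yon r a hr.rep
  haveI : Etale q.left := etale_left (repWith_of_isPullback sq hr)
  haveI : Etale p.left := etale_left (repWith_of_isPullback sq.flip ha)
  haveI : Surjective q.left := surjective_left (repWith_of_isPullback sq hrs)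
  obtain ⟨w, rfl⟩ := q.left.surjective u₁
  have hpq : p ≫ h = q ≫ h₁ ≫ b' := (yon S).map_injective (by
    rw [Functor.map_comp, Functor.map_comp, Functor.map_comp, ← e, ← e₁, reassoc_of% sq.w])
  have hl : p.left ≫ h.left = q.left ≫ h₁.left ≫ b'.left := congrArg CommaMorphism.left hpq
  rw [← hQ.srcEt q.left h₁.left, ← hQ.tgtEt (q.left ≫ h₁.left) b'.left, Category.assoc, ← hl, hQ.srcEt]
  exact H _

/-- The locus of the base above which the condition holds. -/
theorem exists_locus (hQ : GoodProp Q) (hX : IsAlgSpace X) (hfl : LocP @Flat f)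
    (hlfp : LocP @LocallyOfFinitePresentation f) (huc : IsUnivClosedMor f) :
    ∃ V : T.left.Opens, ∀ {X' : Sp S} {T' : Over S} (f' : X' ⟶ (yon S).obj T') (top : X' ⟶ X) (β : T' ⟶ T),
      IsPullback top f' f ((yon S).map β) →
        (LocP (allPts Q) f' ↔ Set.range β.left.base ⊆ (V : Set T.left)) := by
  obtain ⟨U, r, hr, hrs⟩ := hX.atlas
  obtain ⟨h, e'⟩ := (yon S).map_surjective (r ≫ f)
  have e : r ≫ f = (yon S).map h := e'.symm
  obtain ⟨_, _⟩ := chart_data hfl hlfp hr e
  let O : Set U.left := {u | Q h.left u}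
  have hO : IsOpen O := hQ.isOpen h.left
  have hsat : ∀ u u' : U.left, Points.ofPt r u = Points.ofPt r u' → u ∈ O → u' ∈ O := by
    intro u u' huu hu
    obtain ⟨W, p, p', sqW⟩ := exists_isPullback_yon r r hr.rep
    obtain ⟨w, hw, hw'⟩ := (ofPt_eq_ofPt_iff sqW u u').1 huu
    haveI : Etale p'.left := etale_left (repWith_of_isPullback sqW hr)
    haveI : Etale p.left := etale_left (repWith_of_isPullback sqW.flip hr)
    have hpp : p ≫ h = p' ≫ h := (yon S).map_injective (by
      rw [Functor.map_comp, Functor.map_comp, ← e, reassoc_of% sqW.w])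
    have hpl : p.left ≫ h.left = p'.left ≫ h.left := congrArg CommaMorphism.left hpp
    subst hw hw'
    have h1 : Q (p.left ≫ h.left) w := (hQ.srcEt p.left h.left w).2 hu
    rw [hpl] at h1
    exact (hQ.srcEt p'.left h.left w).1 h1
  have hclosed : IsClosed (Points.ofPt r '' Oᶜ) := by
    rw [← (isQuotientMap_ofPt hr hrs).isClosed_preimage]
    convert hO.isClosed_compl using 1
    ext u'
    exact ⟨fun ⟨u, hu, huu⟩ hu' => hu (hsat u' u huu.symm hu'), fun hu' => ⟨u', hu', rfl⟩⟩
  have himg : IsClosed (h.left.base '' Oᶜ) := by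
    have h1 := ((isClosedMap_of_isUnivClosedMor (IsAlgSpace.yon_obj T) huc) _ hclosed).preimage
      (Points.schemeHomeo T).continuous
    convert h1 using 1
    have hm : ∀ u, Points.map f (Points.ofPt r u) = Points.schemeHomeo T (h.left.base u) := by
      intro u
      rw [Points.map_ofPt, e, ← Category.comp_id ((yon S).map h), ofPt_yon_comp,
        Points.ofPt_eq_map_ofScheme, Points.map_id]
      rfl
    ext v
    constructor
    · rintro ⟨u, hu, rfl⟩
      exact ⟨_, ⟨u, hu, rfl⟩, hm u⟩
    · rintro ⟨_, ⟨u, hu, rfl⟩, huv⟩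
      exact ⟨u, hu, (Points.schemeHomeo T).injective ((hm u).symm.trans huv)⟩
  refine ⟨⟨(h.left.base '' Oᶜ)ᶜ, himg.isOpen_compl⟩, fun {X' T'} f' top β cart => ?_⟩
  have hfl' : LocP @Flat f' := locP_of_isPullback hX (IsAlgSpace.yon_obj T) (IsAlgSpace.yon_obj T') cart hfl
  have hlfp' : LocP @LocallyOfFinitePresentation f' :=
    locP_of_isPullback hX (IsAlgSpace.yon_obj T) (IsAlgSpace.yon_obj T') cart hlfp
  have sqU : IsPullback ((yon S).map (pullback.fst h β)) ((yon S).map (pullback.snd h β))
      ((yon S).map h) ((yon S).map β) := (IsPullback.of_hasPullback h β).map (yon S)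
  let r' : (yon S).obj (pullback h β) ⟶ X' :=
    cart.lift ((yon S).map (pullback.fst h β) ≫ r) ((yon S).map (pullback.snd h β))
      (by rw [Category.assoc, e]; exact sqU.w)
  have e'' : r' ≫ f' = (yon S).map (pullback.snd h β) := cart.lift_snd _ _ _
  have hm' : IsPullback ((yon S).map (pullback.fst h β)) r' r top := by
    refine IsPullback.of_bot ?_ (cart.lift_fst _ _ _).symm cart
    rw [e, e'']
    exact sqU
  have sql : IsPullback (pullback.fst h β).left (pullback.snd h β).left h.left β.left := isPullback_left sqU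
  rw [locP_iff_atlas hQ hfl' hlfp' (repWith_of_isPullback hm' hr) (repWith_of_isPullback hm' hrs) e'']
  constructor
  · rintro H _ ⟨t, rfl⟩ ⟨u, hu, hut⟩
    obtain ⟨z, hz, -⟩ := Scheme.Pullback.exists_preimage_pullback (f := h.left) (g := β.left) u t hut
    have h1 := (hQ.baseChange h.left β.left _ _ sql (sql.isoPullback.inv.base z)).1 (H _)
    rw [← Scheme.Hom.comp_apply, IsPullback.isoPullback_inv_fst, hz] at h1
    exact hu h1
  · intro H u'
    rw [hQ.baseChange h.left β.left _ _ sql u']
    by_contra hu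
    exact H ⟨(pullback.snd h β).left.base u', rfl⟩ ⟨_, hu, by
      rw [← Scheme.Hom.comp_apply, sql.w, Scheme.Hom.comp_apply]⟩

/-- Families of curves satisfying the condition form an open substack. -/
theorem isOpenSubstack_curves {S : Scheme.{u}} {n : ℕ} (hQ : GoodProp Q)
    (hC : AlgSt.IsAlgStack Scheme.fppfPrecoverage (CurvSt.Curves S n)) (P : (CurvSt.Curves S n).obj → Prop)
    (hP : ∀ A, P A ↔ LocP (allPts Q) A.obj.f) :
    AlgSt.IsOpenSubstack (CurvSt.Curves S n) P Scheme.fppfPrecoverage := by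
  choose V hV using fun A : (CurvSt.Curves S n).obj =>
    exists_locus hQ A.property.1 A.property.2.1 A.property.2.2.2.1.1 A.property.2.2.1.2.2
  exact AlgStBig.isOpenSubstack_of_locus hC P V fun {η' η} m =>
    (hP η').trans (hV η η'.obj.f m.hom.top m.hom.base m.hom.cart)

end CurvOpenLib
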