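import Groth.Agent.CurvOpenLib.Basic
import Groth.Agent.CMFlatLib.Open
import Groth.Agent.CMFlatLib.BaseChangeScheme
import Groth.Agent.CMFlatLib.FibreDim
import Groth.Agent.CurvFieldLib.Charts
import Groth.Agent.AlgSpLib.RelDim
import Groth.Agent.UOpenLib.FibreDim
import Groth.Prelude.Def_MoreMor

/-!
# The Cohen–Macaulay conditions on families of curves are good
-/

set_option autoImplicit false
set_option linter.style.haveILetI false
set_option backward.isDefEq.respectTransparency.types false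
universe u

open CategoryTheory CategoryTheory.Limits AlgebraicGeometry AlgSp AlgSpLib IsLocalRing

namespace CurvOpenLib

theorem noeth_fibre {X Y : Scheme.{u}} (f : X ⟶ Y) [LocallyOfFiniteType f] (y : Y) :
    IsLocallyNoetherian (f.fiber y) :=
  haveI := UOpenLib.lft_fiberToSpec f y
  LocallyOfFiniteType.isLocallyNoetherian (f.fiberToSpecResidueField y)

theorem isCMAt_of_etale {U X : Scheme.{u}} (a : U ⟶ X) [Etale a] (u : U) : MoreMor.IsCMAt a u := by
  obtain ⟨h1, -, h3, -⟩ := EtStalkLib.stalk_props a u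
  haveI : IsLocalRing (U.presheaf.stalk u ⧸
      (maximalIdeal (X.presheaf.stalk (a u))).map (a.stalkMap u).hom) :=
    GorLib.isLocalRing_quotient (by
      change (maximalIdeal _).map (a.stalkMap u).hom = _ at h3
      rw [h3]; exact (maximalIdeal.isMaximal _).ne_top)
  exact (CMFlatLib.cm_fibre_stalk_iff a u).2
    ⟨h1, CurvFieldLib.cm_of_isField (CurvFieldLib.isField_quotient_maximalIdeal h3)⟩

theorem good_cm : GoodProp.{u} (fun h u => MoreMor.IsCMAt h u) where
  srcEt {U' U V} a h _ _ _ u' :=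
    ⟨fun H => (CMFlatLib.isCMAt_of_comp a h u' (noeth_fibre h _) H
      (Flat.stalkMap a u')).2,
    CMFlatLib.isCMAt_comp a h u' (noeth_fibre (a ≫ h) _) (isCMAt_of_etale a u')⟩
  tgtEt {U V W} h b _ _ _ u :=
    ⟨fun H => (CMFlatLib.isCMAt_of_comp h b u (noeth_fibre b _) H (Flat.stalkMap h u)).1,
    fun H => CMFlatLib.isCMAt_comp h b u (noeth_fibre (h ≫ b) _) H (isCMAt_of_etale b _)⟩
  baseChange {U V U' V'} h g h' g' _ _ sq u' :=
    have H := CMFlatLib.isCMAt_baseChange h g h' g' sq u' (Or.inr inferInstance)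
    ⟨H.2.1 (Flat.stalkMap h _), H.1⟩
  isOpen h _ _ := CMFlatLib.isOpen_isCMAt h

theorem good_cm_dim (d : ℕ) :
    GoodProp.{u} (fun h u => MoreMor.IsCMAt h u ∧ FlatMor.fibreDimAt h u = (d : WithBot ℕ∞)) where
  srcEt {U' U V} a h _ _ _ u' := by
    rw [good_cm.srcEt a h u',
      FibDimLib.fibreDimAt_eq_of_etale_square h (a ≫ h) a (𝟙 V) (Category.comp_id _) u']
  tgtEt {U V W} h b _ _ _ u := by
    rw [good_cm.tgtEt h b u,
      ← FibDimLib.fibreDimAt_eq_of_etale_square (h ≫ b) h (𝟙 U) b (Category.id_comp _).symm u]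
    exact Iff.rfl
  baseChange {U V U' V'} h g h' g' _ _ sq u' := by
    rw [good_cm.baseChange h g h' g' sq u', FibDimLib.fibreDimAt_baseChange sq u']
  isOpen {U V} h _ _ := by
    refine isOpen_iff_forall_mem_open.2 fun u hu => ?_
    obtain ⟨e, O, hO, huO, hd⟩ := CMFlatLib.exists_open_fibreDimAt_eq h u hu.1
    exact ⟨O ∩ {u | MoreMor.IsCMAt h u}, fun z hz => ⟨hz.2, (hd z hz.1).trans ((hd u huO).symm.trans hu.2)⟩,
      hO.inter (CMFlatLib.isOpen_isCMAt h), huO, hu.1⟩

/-- Relative dimension `d` everywhere, read on the atlas. -/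
theorem locP_cm_dim_iff {S : Scheme.{u}} {X : Sp S} {T : Over S} {f : X ⟶ (yon S).obj T} (hX : IsAlgSpace X)
    (hfl : LocP @Flat f) (hlfp : LocP @LocallyOfFinitePresentation f) (d : ℕ) :
    (LocP (allPts fun h u => MoreMor.IsCMAt h u) f ∧
      ∀ x, HasAtMor (fun _ _ h u => FlatMor.fibreDimAt h u = (d : WithBot ℕ∞)) f x) ↔
    LocP (allPts fun h u => MoreMor.IsCMAt h u ∧ FlatMor.fibreDimAt h u = (d : WithBot ℕ∞)) f := by
  obtain ⟨U, r, hr, hrs⟩ := hX.atlas
  obtain ⟨h, e'⟩ := (yon S).map_surjective (r ≫ f)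
  have e : r ≫ f = (yon S).map h := e'.symm
  rw [locP_iff_atlas good_cm hfl hlfp hr hrs e, locP_iff_atlas (good_cm_dim d) hfl hlfp hr hrs e, forall_and]
  refine and_congr_right fun _ => ?_
  have e1 : r ≫ f = (yon S).map h ≫ 𝟙 _ := e.trans (Category.comp_id _).symm
  refine ⟨fun H u => (hasAtMor_iff (etInv_fibreDim fun c => c = (d : WithBot ℕ∞)) hr
    (AlgSp.repWith_id _ T) e1 u).1 (H _), fun H x => ?_⟩
  obtain ⟨u, rfl⟩ := surjective_ofPt hrs x
  exact (hasAtMor_iff (etInv_fibreDim fun c => c = (d : WithBot ℕ∞)) hr (AlgSp.repWith_id _ T) e1 u).2 (H u)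

end CurvOpenLib
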