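import Groth.Agent.CurvOpenLib.Basic
import Groth.Agent.LCILocusLib.Scheme
import Groth.Agent.KoszAtLib.PrecompMor
import Groth.Agent.TransLib.SyntMor
import Groth.Agent.CurvFieldLib.Charts
import Groth.Prelude.Def_AlgSpMor6

/-!
# The lci condition on families of curves is good
-/

set_option autoImplicit false
set_option linter.style.haveILetI false
set_option backward.isDefEq.respectTransparency.types false
universe u

open CategoryTheory CategoryTheory.Limits AlgebraicGeometry AlgSp AlgSpLib KoszAtLib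

namespace CurvOpenLib

open LCILocusLib (Koz)

theorem koz_iff_exists {X Y : Scheme.{u}} (f : X ⟶ Y) (x : X) :
    Koz f x ↔ ∃ W : X.Opens, x ∈ W ∧ LCIMor (W.ι ≫ f) := by
  have hiso : ∀ (W D : X.Opens), D ≤ W → IsIso (W.ι.appLE D (W.ι ⁻¹ᵁ D) le_rfl) := fun W D hD => by
    rw [← Scheme.Hom.app_eq_appLE]
    refine W.ι.isIso_app D ?_
    rwa [Scheme.Opens.opensRange_ι]
  constructor
  · rintro ⟨U, V, hU, hV, e, hx, hl⟩
    refine ⟨U, hx, ?_⟩
    rw [HasRingHomProperty.iff_exists_appLE (P := LCIMor) lciHom_stableUnderCompositionSource]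
    intro z
    refine ⟨⟨V, hV⟩, ⟨U.ι ⁻¹ᵁ U, by
      rw [Scheme.Opens.ι_preimage_self]; haveI : IsAffine _ := hU; exact isAffineOpen_top _⟩, z.2,
      by rw [Scheme.Hom.comp_preimage]; exact U.ι.preimage_mono e, ?_⟩
    rw [← Scheme.Hom.appLE_comp_appLE U.ι f V U (U.ι ⁻¹ᵁ U) e le_rfl, CommRingCat.hom_comp]
    haveI := hiso U U le_rfl
    exact lciHom_isLocal.respectsIso.1 _
      (asIso (U.ι.appLE U (U.ι ⁻¹ᵁ U) le_rfl)).commRingCatIsoToRingEquiv hl
  · rintro ⟨W, hx, hl⟩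
    obtain ⟨V, hV, hxV, -⟩ := exists_isAffineOpen_mem_and_subset (x := f x) (U := ⊤) trivial
    obtain ⟨U, hU, hxU, hUW⟩ := exists_isAffineOpen_mem_and_subset (x := x) (U := W ⊓ f ⁻¹ᵁ V) ⟨hx, hxV⟩
    have hUW' : U ≤ W := le_trans hUW inf_le_left
    have e : U ≤ f ⁻¹ᵁ V := le_trans hUW inf_le_right
    have hD : IsAffineOpen (W.ι ⁻¹ᵁ U) :=
      hU.preimage_of_isOpenImmersion W.ι (by rwa [Scheme.Opens.opensRange_ι])
    have hle : W.ι ⁻¹ᵁ U ≤ (W.ι ≫ f) ⁻¹ᵁ V := by rw [Scheme.Hom.comp_preimage]; exact W.ι.preimage_mono e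
    have h := HasRingHomProperty.appLE (P := LCIMor) (W.ι ≫ f) hl ⟨V, hV⟩ ⟨_, hD⟩ hle
    rw [← Scheme.Hom.appLE_comp_appLE W.ι f V U (W.ι ⁻¹ᵁ U) e le_rfl, CommRingCat.hom_comp] at h
    haveI := hiso W U hUW'
    have h2 := lciHom_isLocal.respectsIso.1 _
      (asIso (W.ι.appLE U (W.ι ⁻¹ᵁ U) le_rfl)).commRingCatIsoToRingEquiv.symm h
    refine ⟨U, V, hU, hV, e, hxU, ?_⟩
    show LCIHom (f.appLE V U e).hom
    convert h2 using 1
    exact RingHom.ext fun a =>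
      ((asIso (W.ι.appLE U (W.ι ⁻¹ᵁ U) le_rfl)).commRingCatIsoToRingEquiv.symm_apply_apply _).symm

theorem forall_koz_iff {X Y : Scheme.{u}} (f : X ⟶ Y) : (∀ x, Koz f x) ↔ LCIMor f := by
  rw [HasRingHomProperty.iff_exists_appLE (P := LCIMor) lciHom_stableUnderCompositionSource]
  refine forall_congr' fun x => ⟨?_, ?_⟩
  · rintro ⟨U, V, hU, hV, e, hx, hl⟩
    exact ⟨⟨V, hV⟩, ⟨U, hU⟩, hx, e, hl⟩
  · rintro ⟨⟨V, hV⟩, ⟨U, hU⟩, hx, e, hl⟩
    exact ⟨U, V, hU, hV, e, hx, hl⟩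

theorem koz_of_le {X Y : Scheme.{u}} (f : X ⟶ Y) {W W' : X.Opens} (e : W' ≤ W) (h : LCIMor (W.ι ≫ f)) :
    LCIMor (W'.ι ≫ f) := by
  rw [← X.homOfLE_ι e, Category.assoc]
  exact IsZariskiLocalAtSource.comp h _

theorem good_lci : GoodProp.{u} (fun h u => Koz h u) where
  srcEt {U' U V} a h _ _ _ u' := by
    rw [koz_iff_exists, koz_iff_exists]
    constructor
    · rintro ⟨W', hu', hl⟩
      let W : U.Opens := ⟨a.base '' W', a.isOpenMap _ W'.2⟩
      have e : W' ≤ a ⁻¹ᵁ W := fun z hz => ⟨z, hz, rfl⟩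
      refine ⟨W, ⟨u', hu', rfl⟩, ?_⟩
      let g : (W' : Scheme.{u}) ⟶ (W : Scheme.{u}) := a.resLE W W' e
      haveI : Etale g := by
        have : g ≫ W.ι = W'.ι ≫ a := Scheme.Hom.resLE_comp_ι a e
        haveI : Etale (g ≫ W.ι) := by rw [this]; infer_instance
        exact Etale.of_comp g W.ι
      haveI : Surjective g := ⟨fun ⟨w, z, hz, hzw⟩ => ⟨⟨z, hz⟩, Subtype.ext (by
        subst hzw
        exact congrArg (fun φ : (W' : Scheme.{u}) ⟶ U => φ.base ⟨z, hz⟩) (Scheme.Hom.resLE_comp_ι a e))⟩⟩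
      refine lciMor_of_syntomic_precomp g (TransLib.syntMor_of_smooth g) (W.ι ≫ h) ?_
      rwa [← Category.assoc, Scheme.Hom.resLE_comp_ι, Category.assoc]
    · rintro ⟨W, hu, hl⟩
      refine ⟨a ⁻¹ᵁ W, hu, ?_⟩
      rw [← Category.assoc, ← a.resLE_comp_ι (le_refl (a ⁻¹ᵁ W)), Category.assoc]
      haveI : Etale (a.resLE W (a ⁻¹ᵁ W) le_rfl) := by
        haveI : Etale (a.resLE W (a ⁻¹ᵁ W) le_rfl ≫ W.ι) := by rw [Scheme.Hom.resLE_comp_ι]; infer_instance
        exact Etale.of_comp _ W.ι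
      exact MorphismProperty.comp_mem _ _ _ (lciMor_of_smooth _) hl
  tgtEt {U V W} h b _ _ _ u := by
    rw [koz_iff_exists, koz_iff_exists]
    refine exists_congr fun O => and_congr_right fun _ => ⟨fun H => ?_, fun H => ?_⟩
    · rw [← Category.assoc] at H
      exact CurvFieldLib.lciMor_cancel_etale (O.ι ≫ h) b H
    · rw [← Category.assoc]
      exact MorphismProperty.comp_mem _ _ _ H (lciMor_of_smooth b)
  baseChange {U V U' V'} h g h' g' _ _ sq u' := by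
    haveI : Flat (h ≫ 𝟙 V) := by rw [Category.comp_id]; infer_instance
    haveI : LocallyOfFinitePresentation (h ≫ 𝟙 V) := by rw [Category.comp_id]; infer_instance
    exact LCILocusLib.koz_baseChange_iff h (𝟙 V) g g (𝟙 V') (IsPullback.of_vert_isIso ⟨by simp⟩) g' h'
      (by simpa using sq) sq.w u'
  isOpen h _ _ := LCILocusLib.isOpen_koz h

theorem isLCIMor_iff {S : Scheme.{u}} {X Y : Sp S} (f : X ⟶ Y) :
    IsLCIMor f ↔ LocP (allPts fun h u => Koz h u) f := by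
  have : (allPts fun h u => Koz h u) = (AlgSp.lci : MorphismProperty Scheme.{u}) := by
    funext X Y g
    exact propext ((forall_koz_iff g).trans (forall_isKoszulAt_iff g).symm)
  rw [this]
  rfl

end CurvOpenLib
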