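import Groth.Agent.CurvOpenLib.CM
import Groth.Agent.CurvOpenLib.LCI
import Groth.Agent.GenusZeroLib.PSmooth
import Groth.Agent.GenusZeroLib.PSpace
import Groth.Agent.RelProjLib.HProj
import Groth.Agent.DepthLib.GeomRk
import Groth.Agent.FibDimLib.Comps
import Groth.Agent.ProjDegLib.Criterion

/-!
# The projective line as an object of the open substacks of curves
-/

set_option autoImplicit false
set_option linter.style.haveILetI false
set_option backward.isDefEq.respectTransparency.types false
universe u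

open CategoryTheory CategoryTheory.Limits AlgebraicGeometry AlgSp AlgSpLib

namespace CurvOpenLib

variable {S : Scheme.{u}} (Ω : Type u) [Field Ω] (t : Spec (CommRingCat.of Ω) ⟶ S)

/-- The projective line over a point of `S`, as an object over `S`. -/
noncomputable abbrev lineObj : Over S := Over.mk (CohB1.ProjSpace.toSpec 1 Ω ≫ t)

/-- Its structure morphism. -/
noncomputable abbrev lineHom : lineObj Ω t ⟶ Over.mk t := Over.homMk (CohB1.ProjSpace.toSpec 1 Ω) rfl

/-- The family of sheaves of the projective line. -/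
noncomputable abbrev lineFam : CurvSt.SpFamObj S 0 where
  base := Over.mk t
  X := (yon S).obj (lineObj Ω t)
  f := (yon S).map (lineHom Ω t)
  sect i := i.elim0
  sect_f i := i.elim0

theorem fibreDimAt_line (x : CohB1.ProjSpace 1 Ω) :
    FlatMor.fibreDimAt (CohB1.ProjSpace.toSpec 1 Ω) x = ((1 : ℕ) : WithBot ℕ∞) := by
  haveI := GenusZeroLib.smooth_toSpec 1 Ω
  haveI := GenusZeroLib.irreducibleSpace_projSpace Ω 1
  rw [AlgSpLib.fibreDimAt_eq_localDim, FibDimLib.localDim_of_irreducible (CohB1.ProjSpace.toSpec 1 Ω) x,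
    GenusZeroLib.dim_projSpace]

theorem isCMAt_of_smooth_field {k : Type u} [Field k] {X : Scheme.{u}} (q : X ⟶ Spec (CommRingCat.of k)) [Smooth q]
    (x : X) : MoreMor.IsCMAt q x := by
  haveI : IsLocallyNoetherian X := LocallyOfFiniteType.isLocallyNoetherian q
  rw [CMFlatLib.isCMAt_field_iff, CMFlatLib.isCohenMacaulayLocalRing_iff_isCM]
  haveI := (DepthLib.regular_of_smooth_and_conversely q x).1 (by rw [Scheme.Hom.smoothLocus_eq_top]; trivial)
  exact CommAlgDim.isCM_of_isRegularLocalRing _

theorem isCurveFam_line : CurvSt.IsCurveFam (lineFam Ω t) := by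
  haveI := GenusZeroLib.smooth_toSpec 1 Ω
  haveI : IsProper (lineHom Ω t).left := ProjDegLib.toSpec_isProper Ω 1
  have hX : IsAlgSpace ((yon S).obj (lineObj Ω t)) := IsAlgSpace.yon_obj _
  have hT : IsAlgSpace ((yon S).obj (Over.mk t)) := IsAlgSpace.yon_obj _
  haveI : Smooth (lineHom Ω t).left := GenusZeroLib.smooth_toSpec 1 Ω
  have hp : RepWith @IsProper ((yon S).map (lineHom Ω t)) := (repWith_yon_map_iff (P := (@IsProper : MorphismProperty Scheme.{u})) _).2 ‹_›
  have hsep : IsSeparatedMor ((yon S).map (lineHom Ω t)) :=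
    isSeparatedMor_of_repWith (repWith_mono (fun _ _ g (_ : IsProper g) => (inferInstance : IsSeparated g)) hp)
  have hqc : IsQuasiCompactMor ((yon S).map (lineHom Ω t)) := isQuasiCompactMor_of_repWith hX hT
    (repWith_mono (fun _ _ g (_ : IsProper g) => (inferInstance : QuasiCompact g)) hp)
  have huc : IsUnivClosedMor ((yon S).map (lineHom Ω t)) := (isUnivClosedMor_iff_repWith hX hT hp.rep).1
    (repWith_mono (fun _ _ g (_ : IsProper g) => (inferInstance : UniversallyClosed g)) hp)
  have hflat : LocP @Flat ((yon S).map (lineHom Ω t)) :=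
    (locP_yon_map_iff (P := (@Flat : MorphismProperty Scheme.{u})) (lineHom Ω t)).2 (inferInstance : Flat (lineHom Ω t).left)
  have hlft : LocP @LocallyOfFiniteType ((yon S).map (lineHom Ω t)) :=
    (locP_yon_map_iff (P := (@LocallyOfFiniteType : MorphismProperty Scheme.{u})) (lineHom Ω t)).2
      (inferInstance : LocallyOfFiniteType (lineHom Ω t).left)
  have hlfp : LocP @LocallyOfFinitePresentation ((yon S).map (lineHom Ω t)) :=
    (locP_yon_map_iff (P := (@LocallyOfFinitePresentation : MorphismProperty Scheme.{u})) (lineHom Ω t)).2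
      (inferInstance : LocallyOfFinitePresentation (lineHom Ω t).left)
  have hdim : CurvSt.RelDimLE 1 ((yon S).map (lineHom Ω t)) := by
    intro x
    have e : 𝟙 ((yon S).obj (lineObj Ω t)) ≫ (yon S).map (lineHom Ω t) =
        (yon S).map (lineHom Ω t) ≫ 𝟙 _ := (Category.id_comp _).trans (Category.comp_id _).symm
    obtain ⟨u, rfl⟩ := surjective_ofPt (repWith_id (@Surjective : MorphismProperty Scheme.{u}) (lineObj Ω t)) x
    exact ⟨_, _, _, _, lineHom Ω t, u, repWith_id (@Etale : MorphismProperty Scheme.{u}) (lineObj Ω t),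
      repWith_id (@Etale : MorphismProperty Scheme.{u}) (Over.mk t), e, rfl, (fibreDimAt_line Ω u).le⟩
  exact ⟨hX, hflat, ⟨hsep, ⟨hlft, hqc⟩, huc⟩, ⟨hlfp, hqc, isQuasiSeparatedMor_of_isSeparatedMor hsep⟩, hdim⟩

/-- The projective line gives an object over each field point satisfying any good condition it satisfies. -/
theorem nonempty_fiber {Q : ∀ {U V : Scheme.{u}}, (U ⟶ V) → ↥U → Prop} (hQ : GoodProp Q)
    (P : (CurvSt.Curves S 0).obj → Prop) (hP : ∀ A, P A ↔ LocP (allPts Q) A.obj.f)
    (h : ∀ x, Q (CohB1.ProjSpace.toSpec 1 Ω) x) :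
    Nonempty ((AlgSt.fullSub (CurvSt.Curves S 0) P).p.Fiber (Over.mk t)) := by
  have hA := isCurveFam_line Ω t
  refine ⟨⟨⟨⟨lineFam Ω t, hA⟩, (hP _).2 ?_⟩, rfl⟩⟩
  exact (locP_iff_atlas hQ hA.2.1 hA.2.2.2.1.1
    (repWith_id (@Etale : MorphismProperty Scheme.{u}) (lineObj Ω t))
    (repWith_id (@Surjective : MorphismProperty Scheme.{u}) (lineObj Ω t))
    (h := lineHom Ω t) (Category.id_comp _)).2 h

end CurvOpenLib
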