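import Groth.Agent.CurvOpenLib.CM
import Groth.Agent.GorOpenLib.Mor

/-!
# The Gorenstein conditions on families of curves are good
-/

set_option autoImplicit false
set_option linter.style.haveILetI false
set_option backward.isDefEq.respectTransparency.types false
universe u

open CategoryTheory CategoryTheory.Limits AlgebraicGeometry AlgSp AlgSpLib

namespace CurvOpenLib

theorem good_gor : GoodProp.{u} (fun h u => Dual3.IsGorensteinAt h u) where
  srcEt a h _ _ _ u' := GorOpenLib.gorAt_smooth_comp_iff a h u'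
  tgtEt h b _ _ _ u := GorOpenLib.gorAt_comp_smooth_iff h b u (Flat.stalkMap h u)
  baseChange h g h' g' _ _ sq u' :=
    have H := GorLib.gorensteinAt_baseChange h g h' g' sq u' (Or.inr inferInstance)
    ⟨H.2.1 (Flat.stalkMap h _), H.1⟩
  isOpen h _ _ := GorOpenLib.isOpen_gorAt h

theorem good_gor_dim (d : ℕ) :
    GoodProp.{u} (fun h u => Dual3.IsGorensteinAt h u ∧ FlatMor.fibreDimAt h u = (d : WithBot ℕ∞)) where
  srcEt {_ _ V} a h _ _ _ u' := by
    rw [good_gor.srcEt a h u',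
      FibDimLib.fibreDimAt_eq_of_etale_square h (a ≫ h) a (𝟙 V) (Category.comp_id _) u']
  tgtEt {U _ _} h b _ _ _ u := by
    rw [good_gor.tgtEt h b u,
      ← FibDimLib.fibreDimAt_eq_of_etale_square (h ≫ b) h (𝟙 U) b (Category.id_comp _).symm u]
    exact Iff.rfl
  baseChange h g h' g' _ _ sq u' := by
    rw [good_gor.baseChange h g h' g' sq u', FibDimLib.fibreDimAt_baseChange sq u']
  isOpen {U V} h _ _ := by
    refine isOpen_iff_forall_mem_open.2 fun u hu => ?_
    obtain ⟨e, O, hO, huO, hd⟩ :=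
      CMFlatLib.exists_open_fibreDimAt_eq h u ⟨hu.1.1, CMFlatLib.cm_of_gorenstein hu.1.2⟩
    exact ⟨O ∩ {u | Dual3.IsGorensteinAt h u},
      fun z hz => ⟨hz.2, (hd z hz.1).trans ((hd u huO).symm.trans hu.2)⟩,
      hO.inter (GorOpenLib.isOpen_gorAt h), huO, hu.1⟩

/-- Relative dimension `d` everywhere, read on the atlas. -/
theorem locP_gor_dim_iff {S : Scheme.{u}} {X : Sp S} {T : Over S} {f : X ⟶ (yon S).obj T} (hX : IsAlgSpace X)
    (hfl : LocP @Flat f) (hlfp : LocP @LocallyOfFinitePresentation f) (d : ℕ) :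
    (LocP (allPts fun h u => Dual3.IsGorensteinAt h u) f ∧
      ∀ x, HasAtMor (fun _ _ h u => FlatMor.fibreDimAt h u = (d : WithBot ℕ∞)) f x) ↔
    LocP (allPts fun h u => Dual3.IsGorensteinAt h u ∧ FlatMor.fibreDimAt h u = (d : WithBot ℕ∞)) f := by
  obtain ⟨U, r, hr, hrs⟩ := hX.atlas
  obtain ⟨h, e'⟩ := (yon S).map_surjective (r ≫ f)
  have e : r ≫ f = (yon S).map h := e'.symm
  rw [locP_iff_atlas good_gor hfl hlfp hr hrs e, locP_iff_atlas (good_gor_dim d) hfl hlfp hr hrs e, forall_and]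
  refine and_congr_right fun _ => ?_
  have e1 : r ≫ f = (yon S).map h ≫ 𝟙 _ := e.trans (Category.comp_id _).symm
  refine ⟨fun H u => (hasAtMor_iff (etInv_fibreDim fun c => c = (d : WithBot ℕ∞)) hr
    (AlgSp.repWith_id _ T) e1 u).1 (H _), fun H x => ?_⟩
  obtain ⟨u, rfl⟩ := surjective_ofPt hrs x
  exact (hasAtMor_iff (etInv_fibreDim fun c => c = (d : WithBot ℕ∞)) hr (AlgSp.repWith_id _ T) e1 u).2 (H u)

end CurvOpenLib
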