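import Groth.Agent.GorOpenLib.Mor
import Groth.Agent.HenselLib.LocalCover
import Groth.Agent.FlatLib.FlatLocusSpace
import Groth.Agent.AlgSpLib.Noeth
import Groth.Agent.AlgSpLib.HasAt
import Groth.Prelude.Def_AlgSpDec

/-!
# Gorenstein morphisms of algebraic spaces with locally Noetherian fibres: independence of charts
-/

set_option autoImplicit false
set_option linter.style.haveILetI false
set_option backward.isDefEq.respectTransparency.types false
universe u

open CategoryTheory CategoryTheory.Limits AlgebraicGeometry AlgSp AlgSpLib TopologicalSpace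

namespace GorSpace

/-- All fibres of a morphism of schemes are locally Noetherian. -/
def NoethFib {U V : Scheme.{u}} (h : U ⟶ V) : Prop := ∀ y, IsLocallyNoetherian (h.fiber y)

/-- Flatness at a point cancels an etale morphism (no finiteness assumption). -/
theorem flatAt_cancel_etale {W V T : Scheme.{u}} (k : W ⟶ V) (q : V ⟶ T) [Etale q] (w : W)
    (h : ((k ≫ q).stalkMap w).hom.Flat) : (k.stalkMap w).hom.Flat := by
  obtain ⟨_, ⟨T₀, hT₀, rfl⟩, hqT, -⟩ :=
    T.isBasis_affineOpens.exists_subset_of_mem_open (Set.mem_univ (q (k w))) isOpen_univ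
  obtain ⟨_, ⟨V₀, hV₀, rfl⟩, hkV, hVT⟩ :=
    V.isBasis_affineOpens.exists_subset_of_mem_open (show k w ∈ (q ⁻¹ᵁ T₀ : Set V) from hqT) (q ⁻¹ᵁ T₀).2
  have hVT : V₀ ≤ q ⁻¹ᵁ T₀ := hVT
  letI algT : Algebra Γ(T, T₀) (T.presheaf.stalk (q (k w))) :=
    TopCat.Presheaf.algebra_section_stalk T.presheaf ⟨q (k w), hqT⟩
  letI algV : Algebra Γ(V, V₀) (V.presheaf.stalk (k w)) :=
    TopCat.Presheaf.algebra_section_stalk V.presheaf ⟨k w, hkV⟩
  haveI : IsLocalization.AtPrime (T.presheaf.stalk (q (k w))) (hT₀.primeIdealOf ⟨q (k w), hqT⟩).asIdeal :=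
    hT₀.isLocalization_stalk ⟨q (k w), hqT⟩
  haveI : IsLocalization.AtPrime (V.presheaf.stalk (k w)) (hV₀.primeIdealOf ⟨k w, hkV⟩).asIdeal :=
    hV₀.isLocalization_stalk ⟨k w, hkV⟩
  letI : Algebra Γ(T, T₀) Γ(V, V₀) := (q.appLE T₀ V₀ hVT).hom.toAlgebra
  haveI : Algebra.Etale Γ(T, T₀) Γ(V, V₀) := by
    rw [← RingHom.etale_algebraMap]
    exact HasRingHomProperty.appLE @Etale q inferInstance ⟨T₀, hT₀⟩ ⟨V₀, hV₀⟩ hVT
  letI a1 : Algebra (V.presheaf.stalk (k w)) (W.presheaf.stalk w) := (k.stalkMap w).hom.toAlgebra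
  letI a2 : Algebra Γ(V, V₀) (W.presheaf.stalk w) :=
    ((k.stalkMap w).hom.comp (algebraMap Γ(V, V₀) (V.presheaf.stalk (k w)))).toAlgebra
  haveI : IsScalarTower Γ(V, V₀) (V.presheaf.stalk (k w)) (W.presheaf.stalk w) :=
    IsScalarTower.of_algebraMap_eq fun _ => rfl
  letI a3 : Algebra Γ(T, T₀) (W.presheaf.stalk w) :=
    ((algebraMap Γ(V, V₀) (W.presheaf.stalk w)).comp (algebraMap Γ(T, T₀) Γ(V, V₀))).toAlgebra
  haveI : IsScalarTower Γ(T, T₀) Γ(V, V₀) (W.presheaf.stalk w) := IsScalarTower.of_algebraMap_eq fun _ => rfl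
  letI a4 : Algebra (T.presheaf.stalk (q (k w))) (W.presheaf.stalk w) := ((k ≫ q).stalkMap w).hom.toAlgebra
  haveI : IsScalarTower Γ(T, T₀) (T.presheaf.stalk (q (k w))) (W.presheaf.stalk w) :=
    IsScalarTower.of_algebraMap_eq fun t => by
      change (k.stalkMap w).hom ((V.presheaf.germ V₀ (k w) hkV).hom ((q.appLE T₀ V₀ hVT).hom t)) =
        ((k ≫ q).stalkMap w).hom ((T.presheaf.germ T₀ (q (k w)) hqT).hom t)
      rw [Scheme.Hom.stalkMap_comp]
      change _ = (k.stalkMap w).hom ((q.stalkMap (k w)).hom ((T.presheaf.germ T₀ (q (k w)) hqT).hom t))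
      congr 1
      have hg : q.appLE T₀ V₀ hVT ≫ V.presheaf.germ V₀ (k w) hkV =
          T.presheaf.germ T₀ (q (k w)) hqT ≫ q.stalkMap (k w) := by
        rw [Scheme.Hom.appLE, Category.assoc, V.presheaf.germ_res, Scheme.Hom.germ_stalkMap]
      exact ConcreteCategory.congr_hom hg t
  haveI : Module.Flat (T.presheaf.stalk (q (k w))) (W.presheaf.stalk w) := h
  haveI : Module.Flat Γ(T, T₀) (T.presheaf.stalk (q (k w))) :=
    IsLocalization.flat (T.presheaf.stalk (q (k w))) (hT₀.primeIdealOf ⟨q (k w), hqT⟩).asIdeal.primeCompl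
  haveI : Module.Flat Γ(T, T₀) (W.presheaf.stalk w) :=
    Module.Flat.trans Γ(T, T₀) (T.presheaf.stalk (q (k w))) (W.presheaf.stalk w)
  haveI := HenselLib.flat_of_etale (R := Γ(T, T₀)) (U := Γ(V, V₀)) (S := W.presheaf.stalk w)
  exact (Module.flat_iff_of_isLocalization (V.presheaf.stalk (k w))
    (hV₀.primeIdealOf ⟨k w, hkV⟩).asIdeal.primeCompl _).2 inferInstance

theorem noethFib_etale_comp {W U V : Scheme.{u}} (p : W ⟶ U) (h : U ⟶ V) [Etale p] (hN : NoethFib h) :
    NoethFib (p ≫ h) := fun y => by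
  haveI := hN y
  haveI : LocallyOfFiniteType (MoreMor.fiberMap p h y) :=
    MorphismProperty.of_isPullback (P := @LocallyOfFiniteType) (FlatLib.isPullback_fiberMap p h y) inferInstance
  exact LocallyOfFiniteType.isLocallyNoetherian (MoreMor.fiberMap p h y)

theorem srcEt {W U V : Scheme.{u}} (p : W ⟶ U) (h : U ⟶ V) [Etale p] (hN : NoethFib h) (w : W) :
    Dual3.IsGorensteinAt (p ≫ h) w ↔ Dual3.IsGorensteinAt h (p w) :=
  ⟨fun H => (GorOpenLib.gorAt_of_comp p h w (hN _) H (Flat.stalkMap p w)).2,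
    fun H => GorOpenLib.gorAt_comp p h w (noethFib_etale_comp p h hN _) (GorOpenLib.gorAt_of_smooth p w) H⟩

theorem tgtEt {W V T : Scheme.{u}} (k : W ⟶ V) (q : V ⟶ T) [Etale q] (hN : NoethFib (k ≫ q)) (w : W) :
    Dual3.IsGorensteinAt (k ≫ q) w ↔ Dual3.IsGorensteinAt k w :=
  ⟨fun H => (GorOpenLib.gorAt_of_comp k q w (GorOpenLib.noeth_fibre q _) H (flatAt_cancel_etale k q w H.1)).1,
    fun H => GorOpenLib.gorAt_comp k q w (hN _) H (GorOpenLib.gorAt_of_smooth q _)⟩

variable {S : Scheme.{u}}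

/-- The fibres of a morphism over field points are locally Noetherian spaces. -/
def NoethFibSp {F G : Sp S} (f : F ⟶ G) : Prop :=
  ∀ (k : FieldPt G) (Xk : Sp S) (a : Xk ⟶ F) (b : Xk ⟶ (yon S).obj k.pt),
    IsPullback a b f k.toHom → IsLocNoethSp Xk

theorem noeth_fibre_of_section {U V E P : Scheme.{u}} (h : U ⟶ V) (y : V) {ε₁ : E ⟶ V} {p₁ : P ⟶ U} {p₂ : P ⟶ E}
    (sqL : IsPullback p₁ p₂ h ε₁) [IsLocallyNoetherian P] (s : Spec (V.residueField y) ⟶ E) (hs : Etale s)
    (hι : s ≫ ε₁ = V.fromSpecResidueField y) : IsLocallyNoetherian (h.fiber y) := by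
  haveI := hs
  let m : h.fiber y ⟶ P :=
    sqL.lift (h.fiberι y) (h.fiberToSpecResidueField y ≫ s)
      (by rw [Category.assoc, hι]; exact pullback.condition)
  have sqm : IsPullback m (h.fiberToSpecResidueField y) p₂ s := by
    refine IsPullback.of_right ?_ (sqL.lift_snd _ _ _) sqL
    rw [sqL.lift_fst, hι]
    exact IsPullback.of_hasPullback _ _
  haveI : LocallyOfFiniteType m :=
    MorphismProperty.of_isPullback (P := @LocallyOfFiniteType) sqm.flip inferInstance
  exact LocallyOfFiniteType.isLocallyNoetherian m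

theorem noethFib_chart {F G : Sp S} (hG : IsAlgSpace G) {f : F ⟶ G} (hf : NoethFibSp f)
    {U V : Over S} {a : (yon S).obj U ⟶ F} {b : (yon S).obj V ⟶ G} {h : U ⟶ V}
    (ha : RepWith @Etale a) (hb : RepWith @Etale b) (e : a ≫ f = (yon S).map h ≫ b) : NoethFib h.left := by
  intro y
  let k := FieldPt.ofPt b y
  obtain ⟨E, ε₁, ε₂, sqE⟩ := exists_isPullback_yon b k.toHom hb.rep
  haveI : Etale ε₂.left := etale_left (repWith_of_isPullback sqE hb)
  have sqP := (IsPullback.of_hasPullback h ε₁).map (yon S)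
  have sq1 : IsPullback ((yon S).map (pullback.fst h ε₁)) ((yon S).map (pullback.snd h ε₁) ≫ (yon S).map ε₂)
      (a ≫ f) k.toHom := by
    rw [e]
    exact sqP.paste_vert sqE
  have sqK := IsPullback.of_hasPullback f k.toHom
  have hXk : IsLocNoethSp (pullback f k.toHom) := hf k _ _ _ sqK
  let r : (yon S).obj (pullback h ε₁) ⟶ pullback f k.toHom :=
    sqK.lift ((yon S).map (pullback.fst h ε₁) ≫ a) ((yon S).map (pullback.snd h ε₁) ≫ (yon S).map ε₂)
      (by rw [Category.assoc]; exact sq1.w)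
  have sqr : IsPullback ((yon S).map (pullback.fst h ε₁)) r a (pullback.fst f k.toHom) := by
    refine IsPullback.of_bot ?_ (sqK.lift_fst _ _ _).symm sqK
    rw [sqK.lift_snd]
    exact sq1
  haveI : IsLocallyNoetherian (pullback h ε₁).left :=
    isLocallyNoetherian_of_chart hXk (repWith_of_isPullback sqr ha)
  -- the point `y` is a section of the etale scheme `E` over its residue field
  let ι : k.pt ⟶ V := Over.homMk (V.left.fromSpecResidueField y) rfl
  have hkι : (yon S).map ι ≫ b = (yon S).map (𝟙 k.pt) ≫ k.toHom := by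
    rw [CategoryTheory.Functor.map_id]
    exact (FieldPt.toHom_ofPt b y).symm.trans (Category.id_comp _).symm
  obtain ⟨s, hs⟩ := (yon S).map_surjective (sqE.lift ((yon S).map ι) ((yon S).map (𝟙 k.pt)) hkι)
  have hs1 : s ≫ ε₁ = ι := (yon S).map_injective (by rw [Functor.map_comp, hs, sqE.lift_fst])
  have hs2 : s ≫ ε₂ = 𝟙 k.pt := (yon S).map_injective (by rw [Functor.map_comp, hs, sqE.lift_snd])
  haveI : Etale (s.left ≫ ε₂.left) := by
    rw [← Over.comp_left, hs2]
    exact (inferInstance : Etale (𝟙 k.pt.left))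
  haveI : IsLocallyNoetherian ((Over.forget S).obj (pullback h ε₁)) := ‹IsLocallyNoetherian (pullback h ε₁).left›
  exact noeth_fibre_of_section h.left y ((IsPullback.of_hasPullback h ε₁).map (Over.forget S)) s.left
    (Etale.of_comp s.left ε₂.left) (congrArg CommaMorphism.left hs1)

/-- One chart decides the Gorenstein property at a point. -/
theorem locPAt_iff_chart {F G : Sp S} (hG : IsAlgSpace G) {f : F ⟶ G} (hf : NoethFibSp f)
    {U V : Over S} {a : (yon S).obj U ⟶ F} {b : (yon S).obj V ⟶ G} {h : U ⟶ V}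
    (ha : RepWith @Etale a) (hb : RepWith @Etale b) (e : a ≫ f = (yon S).map h ≫ b) (u : U.left) :
    LocPAt (fun g z => Dual3.IsGorensteinAt g z) f (Points.ofPt a u) ↔ Dual3.IsGorensteinAt h.left u := by
  refine ⟨fun H => H a b h u ha hb e rfl, fun hq => ?_⟩
  intro U' V' a' b' h' u' ha' hb' e' hu
  obtain ⟨W, p, p', sqW⟩ := exists_isPullback_yon a a' ha.rep
  obtain ⟨V'', q, q', sqV⟩ := exists_isPullback_yon b b' hb.rep
  obtain ⟨w, hw, hw'⟩ := (ofPt_eq_ofPt_iff sqW u u').1 hu.symm
  obtain ⟨k, hk⟩ := (yon S).map_surjective (sqV.lift ((yon S).map (p ≫ h)) ((yon S).map (p' ≫ h'))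
    (by rw [Functor.map_comp, Functor.map_comp, Category.assoc, Category.assoc, ← e, ← e', reassoc_of% sqW.w]))
  have hkq : k ≫ q = p ≫ h := (yon S).map_injective (by rw [Functor.map_comp, hk, sqV.lift_fst])
  have hkq' : k ≫ q' = p' ≫ h' := (yon S).map_injective (by rw [Functor.map_comp, hk, sqV.lift_snd])
  haveI : Etale p'.left := etale_left (repWith_of_isPullback sqW ha)
  haveI : Etale p.left := etale_left (repWith_of_isPullback sqW.flip ha')
  haveI : Etale q'.left := etale_left (repWith_of_isPullback sqV hb)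
  haveI : Etale q.left := etale_left (repWith_of_isPullback sqV.flip hb')
  have hN := noethFib_chart hG hf ha hb e
  have hN' := noethFib_chart hG hf ha' hb' e'
  have h1 : k.left ≫ q.left = p.left ≫ h.left := congrArg CommaMorphism.left hkq
  have h2 : k.left ≫ q'.left = p'.left ≫ h'.left := congrArg CommaMorphism.left hkq'
  subst hw hw'
  have h3 : Dual3.IsGorensteinAt (p.left ≫ h.left) w := (srcEt p.left h.left hN w).2 hq
  rw [← h1] at h3
  have hk3 : Dual3.IsGorensteinAt k.left w :=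
    (tgtEt k.left q.left (by rw [h1]; exact noethFib_etale_comp p.left h.left hN) w).1 h3
  have h4 : Dual3.IsGorensteinAt (k.left ≫ q'.left) w :=
    (tgtEt k.left q'.left (by rw [h2]; exact noethFib_etale_comp p'.left h'.left hN') w).2 hk3
  rw [h2] at h4
  exact (srcEt p'.left h'.left hN' w).1 h4

end GorSpace

namespace GorSpace

variable {S : Scheme.{u}}

/-- Fibres of a base change are fibres. -/
theorem noethFibSp_baseChange {F G F' G' : Sp S} {f : F ⟶ G} {g : G' ⟶ G} {fst : F' ⟶ F} {snd : F' ⟶ G'}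
    (sq : IsPullback fst snd f g) (hf : NoethFibSp f) : NoethFibSp snd := fun k Xk a b sqk => by
  refine hf (k.map g) Xk (a ≫ fst) b ?_
  rw [FieldPt.toHom_map]
  exact sqk.paste_horiz sq

/-- Cartesian charts for a base change, with the chart diagram of the base morphism. -/
theorem exists_chart_baseChange {F G F' G' : Sp S} (hF : IsAlgSpace F) (hG : IsAlgSpace G)
    (hG' : IsAlgSpace G') {f : F ⟶ G} {g : G' ⟶ G} {fst : F' ⟶ F} {snd : F' ⟶ G'}
    (sq : IsPullback fst snd f g) (x' : Points F') :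
    ∃ (U V U' V' : Over S) (a : (yon S).obj U ⟶ F) (b : (yon S).obj V ⟶ G) (h : U ⟶ V)
      (a' : (yon S).obj U' ⟶ F') (b' : (yon S).obj V' ⟶ G') (h' : U' ⟶ V') (p : U' ⟶ U) (v : V' ⟶ V)
      (u' : U'.left),
      RepWith @Etale a ∧ RepWith @Etale b ∧ RepWith @Etale a' ∧ RepWith @Etale b' ∧
      a ≫ f = (yon S).map h ≫ b ∧ a' ≫ snd = (yon S).map h' ≫ b' ∧
      IsPullback p.left h'.left h.left v.left ∧
      Points.ofPt a' u' = x' ∧ Points.ofPt a (p.left.base u') = Points.map fst x' ∧
      b' ≫ g = (yon S).map v ≫ b := by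
  obtain ⟨V, b, hb, hbs⟩ := hG.atlas
  obtain ⟨V', b', v, hb', hbs', e'⟩ := exists_chart_over hG' hG g b hb hbs
  obtain ⟨U, r, h, hr, hrs, hrh⟩ := exists_atlas_pullback hF hG f b
  let U' : Over S := pullback h v
  have sqU : IsPullback ((yon S).map (pullback.fst h v)) ((yon S).map (pullback.snd h v))
      ((yon S).map h) ((yon S).map v) := (IsPullback.of_hasPullback h v).map (yon S)
  have hsqF' := IsPullback.of_hasPullback snd b'
  let l : pullback snd b' ⟶ pullback f b := pullback.lift (pullback.fst snd b' ≫ fst)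
    (pullback.snd snd b' ≫ (yon S).map v) (by
      rw [Category.assoc, Category.assoc, sq.w, ← e', reassoc_of% hsqF'.w])
  have sqX : IsPullback l (pullback.snd snd b') (pullback.snd f b) ((yon S).map v) := by
    refine IsPullback.of_right ?_ (pullback.lift_snd _ _ _) (IsPullback.of_hasPullback f b)
    rw [pullback.lift_fst, ← e']
    exact hsqF'.paste_horiz sq
  let m : (yon S).obj U' ⟶ pullback snd b' :=
    sqX.lift ((yon S).map (pullback.fst h v) ≫ r) ((yon S).map (pullback.snd h v)) (by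
      rw [Category.assoc, hrh]; exact sqU.w)
  have hm : IsPullback ((yon S).map (pullback.fst h v)) m r l := by
    refine IsPullback.of_bot ?_ (sqX.lift_fst _ _ _).symm sqX
    rw [hrh, sqX.lift_snd]
    exact sqU
  have ha' : RepWith @Etale (m ≫ pullback.fst snd b') :=
    repWith_comp (repWith_of_isPullback hm hr) (repWith_of_isPullback hsqF'.flip hb')
  have has' : RepWith @Surjective (m ≫ pullback.fst snd b') :=
    repWith_comp (repWith_of_isPullback hm hrs) (repWith_of_isPullback hsqF'.flip hbs')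
  obtain ⟨u', hu'⟩ := surjective_ofPt has' x'
  have hfst : (m ≫ pullback.fst snd b') ≫ fst = (yon S).map (pullback.fst h v) ≫ r ≫ pullback.fst f b := by
    have h1 : l ≫ pullback.fst f b = pullback.fst snd b' ≫ fst := pullback.lift_fst _ _ _
    rw [Category.assoc, ← h1, sqX.lift_fst_assoc, Category.assoc]
  refine ⟨U, V, U', V', r ≫ pullback.fst f b, b, h, m ≫ pullback.fst snd b', b', pullback.snd h v,
    pullback.fst h v, v, u',
    repWith_comp hr (repWith_of_isPullback (IsPullback.of_hasPullback f b).flip hb), hb, ha', hb',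
    by rw [Category.assoc, pullback.condition, reassoc_of% hrh],
    by rw [Category.assoc, hsqF'.w, sqX.lift_snd_assoc], isPullback_left sqU, hu', ?_, e'⟩
  rw [← hu', Points.map_ofPt, hfst, ofPt_yon_comp]

end GorSpace

namespace GorSpace

open IsLocalRing

variable {S : Scheme.{u}}

theorem gor_stalk_etale {A B : Scheme.{u}} (g : A ⟶ B) [Etale g] [IsLocallyNoetherian B] (a : A) :
    LocCoh.IsGorensteinLocalRing (A.presheaf.stalk a) ↔ LocCoh.IsGorensteinLocalRing (B.presheaf.stalk (g a)) := by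
  haveI : IsLocallyNoetherian A := LocallyOfFiniteType.isLocallyNoetherian g
  letI : Algebra (B.presheaf.stalk (g a)) (A.presheaf.stalk a) := (g.stalkMap a).hom.toAlgebra
  haveI : Module.Flat (B.presheaf.stalk (g a)) (A.presheaf.stalk a) := Flat.stalkMap g a
  haveI : IsLocalHom (algebraMap (B.presheaf.stalk (g a)) (A.presheaf.stalk a)) :=
    inferInstanceAs (IsLocalHom (g.stalkMap a).hom)
  have hfib := ((GorLib.isGorensteinAt_iff g a).1 (GorOpenLib.gorAt_of_smooth g a)).2
  exact (GorLib.gorenstein_flat_iff (B.presheaf.stalk (g a)) (A.presheaf.stalk a)).trans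
    ⟨fun h => h.1, fun h => ⟨h, hfib⟩⟩

theorem isGorenstein_etale_of {A B : Scheme.{u}} (g : A ⟶ B) [Etale g] (h : Dual3.IsGorenstein B) :
    Dual3.IsGorenstein A := by
  haveI := h.1
  exact ⟨LocallyOfFiniteType.isLocallyNoetherian g, fun a => (gor_stalk_etale g a).2 (h.2 _)⟩

theorem isGorenstein_of_chart {F : Sp S} (hF : EtaleLocally Dual3.IsGorenstein F) {U : Over S}
    {a : (yon S).obj U ⟶ F} (ha : RepWith @Etale a) : Dual3.IsGorenstein U.left := by
  obtain ⟨U₀, p, hp, hps, h₀⟩ := hF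
  obtain ⟨W, q, r, sq⟩ := exists_isPullback_yon p a hp.rep
  haveI := etale_left (repWith_of_isPullback sq hp)
  haveI := surjective_left (repWith_of_isPullback sq hps)
  haveI := etale_left (repWith_of_isPullback sq.flip ha)
  haveI := h₀.1
  haveI : IsLocallyNoetherian U.left :=
    isLocallyNoetherian_of_chart ⟨U₀, p, hp, hps, h₀.1⟩ ha
  have hW := isGorenstein_etale_of q.left h₀
  refine ⟨inferInstance, fun x => ?_⟩
  obtain ⟨w, rfl⟩ := r.left.surjective x
  exact (gor_stalk_etale r.left w).1 (hW.2 w)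

/-- The scheme fibre of a chart is a chart of the fibre over a point of the target chart. -/
theorem exists_fibre_chart {F G : Sp S} {f : F ⟶ G} {U V : Over S} {b : (yon S).obj V ⟶ G}
    {r : (yon S).obj U ⟶ pullback f b} {h : U ⟶ V} (hrh : r ≫ pullback.snd f b = (yon S).map h) (v : V.left)
    {Xv : Sp S} {a : Xv ⟶ F} {c : Xv ⟶ (yon S).obj (Over.mk (V.left.fromSpecResidueField v ≫ V.hom))}
    (sq : IsPullback a c f ((yon S).map (Over.homMk (V.left.fromSpecResidueField v) rfl :
      Over.mk (V.left.fromSpecResidueField v ≫ V.hom) ⟶ V) ≫ b)) :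
    ∃ (Uv : Over S) (r' : (yon S).obj Uv ⟶ Xv) (_ : Uv.left ≅ h.left.fiber v),
      (RepWith @Etale r → RepWith @Etale r') ∧ (RepWith @Surjective r → RepWith @Surjective r') := by
  let ι : Over.mk (V.left.fromSpecResidueField v ≫ V.hom) ⟶ V := Over.homMk (V.left.fromSpecResidueField v) rfl
  let l : Xv ⟶ pullback f b := pullback.lift a (c ≫ (yon S).map ι) (by rw [Category.assoc]; exact sq.w)
  have sqX : IsPullback l c (pullback.snd f b) ((yon S).map ι) := by
    refine IsPullback.of_right ?_ (pullback.lift_snd _ _ _) (IsPullback.of_hasPullback f b)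
    rw [pullback.lift_fst]
    exact sq
  have sqU : IsPullback ((yon S).map (pullback.fst h ι)) ((yon S).map (pullback.snd h ι))
      ((yon S).map h) ((yon S).map ι) := (IsPullback.of_hasPullback h ι).map (yon S)
  let m : (yon S).obj (pullback h ι) ⟶ Xv :=
    sqX.lift ((yon S).map (pullback.fst h ι) ≫ r) ((yon S).map (pullback.snd h ι)) (by
      rw [Category.assoc, hrh]; exact sqU.w)
  have hm : IsPullback ((yon S).map (pullback.fst h ι)) m r l := by
    refine IsPullback.of_bot ?_ (sqX.lift_fst _ _ _).symm sqX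
    rw [hrh, sqX.lift_snd]
    exact sqU
  exact ⟨pullback h ι, m, ((IsPullback.of_hasPullback h ι).map (Over.forget S)).isoPullback,
    fun hr => repWith_of_isPullback hm hr, fun hr => repWith_of_isPullback hm hr⟩

end GorSpace
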