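import Groth.Agent.CurvOpenLib.LCI
import Groth.Agent.KoszAtLib.Cancel
import Groth.Agent.AlgSpLib.HasAt
import Groth.Prelude.Def_AlgSpMor5

/-!
# Koszul morphisms of algebraic spaces: pointwise criterion
-/

set_option autoImplicit false
set_option linter.style.haveILetI false
set_option backward.isDefEq.respectTransparency.types false
universe u

open CategoryTheory CategoryTheory.Limits AlgebraicGeometry AlgSp AlgSpLib Topology KoszAtLib

namespace KoszSpace

open LCILocusLib (Koz)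
open CurvOpenLib (koz_iff_exists forall_koz_iff)

theorem srcEt {U' U V : Scheme.{u}} (a : U' ⟶ U) (h : U ⟶ V) [Etale a] (u' : U') :
    Koz (a ≫ h) u' ↔ Koz h (a u') := by
  rw [koz_iff_exists, koz_iff_exists]
  constructor
  · rintro ⟨W', hu', hl⟩
    let W : U.Opens := ⟨a.base '' W', a.isOpenMap _ W'.2⟩
    have e : W' ≤ a ⁻¹ᵁ W := fun z hz => ⟨z, hz, rfl⟩
    refine ⟨W, ⟨u', hu', rfl⟩, ?_⟩
    let g : (W' : Scheme.{u}) ⟶ (W : Scheme.{u}) := a.resLE W W' e
    haveI : Etale g := by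
      have : g ≫ W.ι = W'.ι ≫ a := Scheme.Hom.resLE_comp_ι a e
      haveI : Etale (g ≫ W.ι) := by rw [this]; infer_instance
      exact Etale.of_comp g W.ι
    haveI : Surjective g := ⟨fun ⟨w, z, hz, hzw⟩ => ⟨⟨z, hz⟩, Subtype.ext (by
      subst hzw
      exact congrArg (fun φ : (W' : Scheme.{u}) ⟶ U => φ.base ⟨z, hz⟩) (Scheme.Hom.resLE_comp_ι a e))⟩⟩
    refine lciMor_of_syntomic_precomp g (TransLib.syntMor_of_smooth g) (W.ι ≫ h) ?_
    rwa [← Category.assoc, Scheme.Hom.resLE_comp_ι, Category.assoc]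
  · rintro ⟨W, hu, hl⟩
    refine ⟨a ⁻¹ᵁ W, hu, ?_⟩
    rw [← Category.assoc, ← a.resLE_comp_ι (le_refl (a ⁻¹ᵁ W)), Category.assoc]
    haveI : Etale (a.resLE W (a ⁻¹ᵁ W) le_rfl) := by
      haveI : Etale (a.resLE W (a ⁻¹ᵁ W) le_rfl ≫ W.ι) := by rw [Scheme.Hom.resLE_comp_ι]; infer_instance
      exact Etale.of_comp _ W.ι
    exact MorphismProperty.comp_mem _ _ _ (lciMor_of_smooth _) hl

theorem tgtEt {U V W : Scheme.{u}} (h : U ⟶ V) (b : V ⟶ W) [Etale b] (u : U) :
    Koz (h ≫ b) u ↔ Koz h u := by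
  rw [koz_iff_exists, koz_iff_exists]
  refine exists_congr fun O => and_congr_right fun _ => ⟨fun H => ?_, fun H => ?_⟩
  · rw [← Category.assoc] at H
    exact CurvFieldLib.lciMor_cancel_etale (O.ι ≫ h) b H
  · rw [← Category.assoc]
    exact MorphismProperty.comp_mem _ _ _ H (lciMor_of_smooth b)

variable {S : Scheme.{u}} {F G : Sp S} {f : F ⟶ G}

/-- One chart decides the Koszul property at a point. -/
theorem locPAt_iff_chart {U V : Over S} {a : (yon S).obj U ⟶ F} {b : (yon S).obj V ⟶ G} {h : U ⟶ V}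
    (ha : RepWith @Etale a) (hb : RepWith @Etale b) (e : a ≫ f = (yon S).map h ≫ b) (u : U.left) :
    LocPAt (fun g z => Koz g z) f (Points.ofPt a u) ↔ Koz h.left u := by
  refine ⟨fun H => H a b h u ha hb e rfl, fun hq => ?_⟩
  intro U' V' a' b' h' u' ha' hb' e' hu
  obtain ⟨W, p, p', sqW⟩ := exists_isPullback_yon a a' ha.rep
  obtain ⟨V'', q, q', sqV⟩ := exists_isPullback_yon b b' hb.rep
  obtain ⟨w, hw, hw'⟩ := (ofPt_eq_ofPt_iff sqW u u').1 hu.symm
  obtain ⟨k, hk⟩ := (yon S).map_surjective (sqV.lift ((yon S).map (p ≫ h)) ((yon S).map (p' ≫ h'))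
    (by rw [Functor.map_comp, Functor.map_comp, Category.assoc, Category.assoc, ← e, ← e', reassoc_of% sqW.w]))
  have hkq : k ≫ q = p ≫ h := (yon S).map_injective (by rw [Functor.map_comp, hk, sqV.lift_fst])
  have hkq' : k ≫ q' = p' ≫ h' := (yon S).map_injective (by rw [Functor.map_comp, hk, sqV.lift_snd])
  haveI : Etale p'.left := etale_left (repWith_of_isPullback sqW ha)
  haveI : Etale p.left := etale_left (repWith_of_isPullback sqW.flip ha')
  haveI : Etale q'.left := etale_left (repWith_of_isPullback sqV hb)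
  haveI : Etale q.left := etale_left (repWith_of_isPullback sqV.flip hb')
  have h1 : k.left ≫ q.left = p.left ≫ h.left := congrArg CommaMorphism.left hkq
  have h2 : k.left ≫ q'.left = p'.left ≫ h'.left := congrArg CommaMorphism.left hkq'
  subst hw hw'
  have h3 : Koz (p.left ≫ h.left) w := (srcEt p.left h.left w).2 hq
  rw [← h1] at h3
  have h4 : Koz (k.left ≫ q'.left) w := (tgtEt k.left q'.left w).2 ((tgtEt k.left q.left w).1 h3)
  rw [h2] at h4
  exact (srcEt p'.left h'.left w).1 h4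

/-- A morphism is Koszul exactly when it is so at every point. -/
theorem isLCIMor_iff_forall : IsLCIMor f ↔ ∀ x, LocPAt (fun g z => Koz g z) f x := by
  rw [CurvOpenLib.isLCIMor_iff]
  exact ⟨fun H _ _ _ a b h u ha hb e _ => H a b h ha hb e u, fun H _ _ a b h ha hb e u => H _ a b h u ha hb e rfl⟩

/-- A Koszul surjective chart suffices. -/
theorem isLCIMor_of_chart {U V : Over S} {a : (yon S).obj U ⟶ F} {b : (yon S).obj V ⟶ G} {h : U ⟶ V}
    (ha : RepWith @Etale a) (has : RepWith @Surjective a) (hb : RepWith @Etale b)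
    (e : a ≫ f = (yon S).map h ≫ b) (hh : LCIMor h.left) : IsLCIMor f := by
  rw [isLCIMor_iff_forall]
  intro x
  obtain ⟨u, rfl⟩ := surjective_ofPt has x
  exact (locPAt_iff_chart ha hb e u).2 ((forall_koz_iff h.left).2 hh u)

theorem lciMor_chart (hf : IsLCIMor f) {U V : Over S} {a : (yon S).obj U ⟶ F} {b : (yon S).obj V ⟶ G} {h : U ⟶ V}
    (ha : RepWith @Etale a) (hb : RepWith @Etale b) (e : a ≫ f = (yon S).map h ≫ b) : LCIMor h.left :=
  (forall_koz_iff h.left).1 ((CurvOpenLib.isLCIMor_iff f).1 hf a b h ha hb e)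

/-- Koszul morphisms may be precomposed with etale morphisms. -/
theorem isLCIMor_etale_comp {E : Sp S} {e : E ⟶ F} (he : IsEtaleMor e) (hf : IsLCIMor f) : IsLCIMor (e ≫ f) :=
  fun _ _ a b h ha hb eq => hf (a ≫ e) b h (he a ha) hb ((Category.assoc _ _ _).trans eq)

/-- Cancellation of a smooth morphism. -/
theorem isLCIMor_of_comp_smooth {H : Sp S} (hF : IsAlgSpace F) (hG : IsAlgSpace G) (hH : IsAlgSpace H) {q : G ⟶ H}
    (hq : LocP @Smooth q) (hfq : IsLCIMor (f ≫ q)) : IsLCIMor f := by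
  obtain ⟨V, W, b, c, k, hb, hbs, hc, -, e⟩ := exists_chart hG hH q
  obtain ⟨U, a, h, ha, has, e'⟩ := exists_chart_over hF hG f b hb hbs
  haveI : Smooth k.left := hq b c k hb hc e
  have := lciMor_chart hfq ha hc
    (show a ≫ f ≫ q = (yon S).map (h ≫ k) ≫ c by rw [reassoc_of% e', e, Functor.map_comp, Category.assoc])
  exact isLCIMor_of_chart ha has hb e' (KoszAtLib.lciMor_of_comp_smooth h.left k.left this)

theorem isOpen_locPAt (hF : IsAlgSpace F) (hG : IsAlgSpace G) (f : F ⟶ G) :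
    IsOpen {x : Points F | LocPAt (fun g z => Koz g z) f x} := by
  obtain ⟨U, V, a, b, h, ha, has, hb, -, e⟩ := exists_chart hF hG f
  rw [← (isQuotientMap_ofPt ha has).isOpen_preimage]
  convert LCILocusLib.isOpen_koz h.left using 1
  exact Set.ext fun u => locPAt_iff_chart ha hb e u

/-- "Koszul near a point" is the pointwise condition. -/
theorem locPNear_iff (hF : IsAlgSpace F) (hG : IsAlgSpace G) (f : F ⟶ G) (x : Points F) :
    LocPNear AlgSp.lci f x ↔ LocPAt (fun g z => Koz g z) f x := by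
  constructor
  · rintro ⟨W, j, hj, ⟨w, rfl⟩, hl⟩
    obtain ⟨U, V, a, b, h, u, ha, hb, e, rfl⟩ :=
      exists_chart_at (isAlgSpace_of_representable hF j hj.rep) hG (j ≫ f) w
    rw [Points.map_ofPt,
      locPAt_iff_chart (isEtaleMor_of_openImmersion hj a ha) hb (by rw [Category.assoc]; exact e) u]
    exact (forall_koz_iff h.left).2 (lciMor_chart hl ha hb e) u
  · intro hx
    let O : Set (Points F) := {y | LocPAt (fun g z => Koz g z) f y}
    have hO : IsOpen O := isOpen_locPAt hF hG f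
    refine ⟨_, openSubι F O, repWith_openSubι F hO, by rw [range_openSubι]; exact hx,
      isLCIMor_iff_forall.2 fun y => ?_⟩
    intro U V a b h u ha hb e hu
    have hy : Points.map (openSubι F O) y ∈ O := by
      have := (range_openSubι F (W := O)).le (Set.mem_range_self y)
      exact this
    subst hu
    exact hy (a ≫ openSubι F O) b h u (isEtaleMor_of_openImmersion (repWith_openSubι F hO) a ha) hb
      (by rw [Category.assoc]; exact e) (Points.map_ofPt _ _ _).symm

/-- A chart of a base change from charts of the factors. -/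
theorem exists_pullback_chart {F' G' : Sp S} {g : G' ⟶ G} {fst : F' ⟶ F} {snd : F' ⟶ G'}
    (sq : IsPullback fst snd f g) {V V' U : Over S} {b : (yon S).obj V ⟶ G} {b' : (yon S).obj V' ⟶ G'} {v : V' ⟶ V}
    (hb' : RepWith @Etale b') (hbs' : RepWith @Surjective b') (e' : b' ≫ g = (yon S).map v ≫ b)
    {r : (yon S).obj U ⟶ pullback f b} {h : U ⟶ V} (hr : RepWith @Etale r) (hrs : RepWith @Surjective r)
    (hrh : r ≫ pullback.snd f b = (yon S).map h) :
    ∃ (U' : Over S) (p : U' ⟶ U) (h' : U' ⟶ V') (a' : (yon S).obj U' ⟶ F'),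
      IsPullback p.left h'.left h.left v.left ∧ RepWith @Etale a' ∧ RepWith @Surjective a' ∧
      a' ≫ snd = (yon S).map h' ≫ b' ∧ a' ≫ fst = (yon S).map p ≫ r ≫ pullback.fst f b := by
  have sqU : IsPullback ((yon S).map (pullback.fst h v)) ((yon S).map (pullback.snd h v))
      ((yon S).map h) ((yon S).map v) := (IsPullback.of_hasPullback h v).map (yon S)
  have hsqF' := IsPullback.of_hasPullback snd b'
  let l : pullback snd b' ⟶ pullback f b := pullback.lift (pullback.fst snd b' ≫ fst)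
    (pullback.snd snd b' ≫ (yon S).map v) (by
      rw [Category.assoc, Category.assoc, sq.w, ← e', reassoc_of% hsqF'.w])
  have sqX : IsPullback l (pullback.snd snd b') (pullback.snd f b) ((yon S).map v) := by
    refine IsPullback.of_right ?_ (pullback.lift_snd _ _ _) (IsPullback.of_hasPullback f b)
    rw [pullback.lift_fst, ← e']
    exact hsqF'.paste_horiz sq
  let m : (yon S).obj (pullback h v) ⟶ pullback snd b' :=
    sqX.lift ((yon S).map (pullback.fst h v) ≫ r) ((yon S).map (pullback.snd h v)) (by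
      rw [Category.assoc, hrh]; exact sqU.w)
  have hm : IsPullback ((yon S).map (pullback.fst h v)) m r l := by
    refine IsPullback.of_bot ?_ (sqX.lift_fst _ _ _).symm sqX
    rw [hrh, sqX.lift_snd]
    exact sqU
  have h1 : l ≫ pullback.fst f b = pullback.fst snd b' ≫ fst := pullback.lift_fst _ _ _
  exact ⟨pullback h v, pullback.fst h v, pullback.snd h v, m ≫ pullback.fst snd b', isPullback_left sqU,
    repWith_comp (repWith_of_isPullback hm hr) (repWith_of_isPullback hsqF'.flip hb'),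
    repWith_comp (repWith_of_isPullback hm hrs) (repWith_of_isPullback hsqF'.flip hbs'),
    by rw [Category.assoc, hsqF'.w, sqX.lift_snd_assoc],
    by rw [Category.assoc, ← h1, sqX.lift_fst_assoc, Category.assoc]⟩

/-- The Koszul locus of a morphism of flat finitely presented spaces commutes with base change. -/
theorem locPAt_baseChange_iff {H F' G' H' : Sp S} (hF : IsAlgSpace F) (hG : IsAlgSpace G) (hH : IsAlgSpace H)
    (hH' : IsAlgSpace H') {q : G ⟶ H} (hp1 : LocP @Flat (f ≫ q)) (hp2 : LocP @LocallyOfFinitePresentation (f ≫ q))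
    (hq1 : LocP @Flat q) (hq2 : LocP @LocallyOfFinitePresentation q) {g : H' ⟶ H} {gY : G' ⟶ G} {q' : G' ⟶ H'}
    (hY : IsPullback gY q' q g) {gX : F' ⟶ F} {f' : F' ⟶ G'} (hX : IsPullback gX f' f gY) (x' : Points F') :
    LocPAt (fun g z => Koz g z) f' x' ↔ LocPAt (fun g z => Koz g z) f (Points.map gX x') := by
  obtain ⟨W, c, hc, hcs⟩ := hH.atlas
  obtain ⟨W', c', w, hc', hcs', ew⟩ := exists_chart_over hH' hH g c hc hcs
  obtain ⟨V, r₁, k, hr₁, hrs₁, hrk⟩ := exists_atlas_pullback hG hH q c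
  obtain ⟨V', pV, k', b', sqV, hb', hbs', ek', eb'⟩ := exists_pullback_chart hY hc' hcs' ew hr₁ hrs₁ hrk
  have hb : RepWith @Etale (r₁ ≫ pullback.fst q c) :=
    repWith_comp hr₁ (repWith_of_isPullback (IsPullback.of_hasPullback q c).flip hc)
  have ek : (r₁ ≫ pullback.fst q c) ≫ q = (yon S).map k ≫ c := by
    rw [Category.assoc, pullback.condition, reassoc_of% hrk]
  obtain ⟨U, r₂, h, hr₂, hrs₂, hrh⟩ := exists_atlas_pullback hF hG f (r₁ ≫ pullback.fst q c)
  obtain ⟨U', pU, h', a', sqU, ha', has', eh', ea'⟩ := exists_pullback_chart hX hb' hbs' eb' hr₂ hrs₂ hrh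
  have ha : RepWith @Etale (r₂ ≫ pullback.fst f (r₁ ≫ pullback.fst q c)) :=
    repWith_comp hr₂ (repWith_of_isPullback (IsPullback.of_hasPullback f _).flip hb)
  have eh : (r₂ ≫ pullback.fst f (r₁ ≫ pullback.fst q c)) ≫ f = (yon S).map h ≫ r₁ ≫ pullback.fst q c := by
    rw [Category.assoc, pullback.condition, reassoc_of% hrh]
  have ep : (r₂ ≫ pullback.fst f (r₁ ≫ pullback.fst q c)) ≫ f ≫ q = (yon S).map (h ≫ k) ≫ c := by
    rw [← Category.assoc _ f q, eh, Category.assoc, ek, Functor.map_comp, Category.assoc]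
  haveI : Flat k.left := hq1 _ c k hb hc ek
  haveI : LocallyOfFinitePresentation k.left := hq2 _ c k hb hc ek
  haveI : Flat (h.left ≫ k.left) := hp1 _ c (h ≫ k) ha hc ep
  haveI : LocallyOfFinitePresentation (h.left ≫ k.left) := hp2 _ c (h ≫ k) ha hc ep
  obtain ⟨u', rfl⟩ := surjective_ofPt has' x'
  rw [locPAt_iff_chart ha' hb' eh' u', Points.map_ofPt, ea', ofPt_yon_comp, locPAt_iff_chart ha hb eh _]
  exact LCILocusLib.koz_baseChange_iff h.left k.left w.left pV.left k'.left sqV pU.left h'.left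
    (sqU.paste_vert sqV) sqU.w u'

/-- Flat base change. -/
theorem isLCIMor_of_isPullback {F' G' : Sp S} (hF : IsAlgSpace F) (hG : IsAlgSpace G) (hG' : IsAlgSpace G')
    {g : G' ⟶ G} (hg : LocP @Flat g) {fst : F' ⟶ F} {snd : F' ⟶ G'} (sq : IsPullback fst snd f g)
    (hf : IsLCIMor f) : IsLCIMor snd := by
  obtain ⟨V, b, hb, hbs⟩ := hG.atlas
  obtain ⟨V', b', v, hb', hbs', e'⟩ := exists_chart_over hG' hG g b hb hbs
  obtain ⟨U, r, h, hr, hrs, hrh⟩ := exists_atlas_pullback hF hG f b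
  have sqU : IsPullback ((yon S).map (pullback.fst h v)) ((yon S).map (pullback.snd h v))
      ((yon S).map h) ((yon S).map v) := (IsPullback.of_hasPullback h v).map (yon S)
  have hsqF' := IsPullback.of_hasPullback snd b'
  let l : pullback snd b' ⟶ pullback f b := pullback.lift (pullback.fst snd b' ≫ fst)
    (pullback.snd snd b' ≫ (yon S).map v) (by
      rw [Category.assoc, Category.assoc, sq.w, ← e', reassoc_of% hsqF'.w])
  have sqX : IsPullback l (pullback.snd snd b') (pullback.snd f b) ((yon S).map v) := by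
    refine IsPullback.of_right ?_ (pullback.lift_snd _ _ _) (IsPullback.of_hasPullback f b)
    rw [pullback.lift_fst, ← e']
    exact hsqF'.paste_horiz sq
  let m : (yon S).obj (pullback h v) ⟶ pullback snd b' :=
    sqX.lift ((yon S).map (pullback.fst h v) ≫ r) ((yon S).map (pullback.snd h v)) (by
      rw [Category.assoc, hrh]; exact sqU.w)
  have hm : IsPullback ((yon S).map (pullback.fst h v)) m r l := by
    refine IsPullback.of_bot ?_ (sqX.lift_fst _ _ _).symm sqX
    rw [hrh, sqX.lift_snd]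
    exact sqU
  haveI : Flat v.left := hg b' b v hb' hb e'
  have hlh : LCIMor h.left := lciMor_chart hf
    (repWith_comp hr (repWith_of_isPullback (IsPullback.of_hasPullback f b).flip hb)) hb
    (by rw [Category.assoc, pullback.condition, reassoc_of% hrh])
  exact isLCIMor_of_chart (a := m ≫ pullback.fst snd b')
    (repWith_comp (repWith_of_isPullback hm hr) (repWith_of_isPullback hsqF'.flip hb'))
    (repWith_comp (repWith_of_isPullback hm hrs) (repWith_of_isPullback hsqF'.flip hbs'))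
    hb' (by rw [Category.assoc, hsqF'.w, sqX.lift_snd_assoc])
    (lciMor_baseChange h.left v.left (pullback.snd h v).left (pullback.fst h v).left (isPullback_left sqU) hlh)

end KoszSpace

namespace KoszSpace

variable {S : Scheme.{u}}

/-- An fpqc covering of an affine etale chart is refined by finitely many affines flat over the members. -/
theorem exists_flat_family {ι : Type u} {Y : Sp S} {Yi : ι → Sp S} {g : ∀ i, Yi i ⟶ Y}
    (hY : IsAlgSpace Y) (hYi : ∀ i, IsAlgSpace (Yi i)) (hτ : IsFpqcCover Yi g) (Z : Over S) [IsAffine Z.left]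
    (h : (yon S).obj Z ⟶ Y) (hh : RepWith @Etale h) :
    ∃ (J : Type u) (_ : Finite J) (W : J → Over S) (c : ∀ j, W j ⟶ Z),
      (∀ j, IsAffine (W j).left) ∧ (∀ j, Flat (c j).left) ∧ (∀ z : Z.left, ∃ j, z ∈ Set.range (c j).left) ∧
      ∀ j, ∃ (i : ι) (l : (yon S).obj (W j) ⟶ Yi i), LocP @Flat l ∧ l ≫ g i = (yon S).map (c j) ≫ h := by
  obtain ⟨m, W, c, hW, hc, hs, hl⟩ := hτ.2 Z ‹_› h
  have key : ∀ j, ∃ (i : ι) (E : Over S) (π : E ⟶ W j) (l : (yon S).obj E ⟶ Yi i) (t : Finset E.left.affineOpens),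
      Flat π.left ∧ LocP @Flat l ∧ l ≫ g i = (yon S).map (π ≫ c j) ≫ h ∧
      ∀ w : (W j).left, ∃ A ∈ t, w ∈ π.left '' (A.1 : Set E.left) := by
    intro j
    obtain ⟨i, l, e⟩ := hl j
    haveI := hW j
    haveI := hc j
    let k : (yon S).obj (W j) ⟶ Y := (yon S).map (c j) ≫ h
    have hk : LocP @Flat k := locP_comp (IsAlgSpace.yon_obj _) (IsAlgSpace.yon_obj _) hY
      ((locP_yon_map_iff _).2 (hc j))
      (locP_of_repWith (repWith_mono (fun _ _ φ (_ : Etale φ) => (inferInstance : Flat φ)) hh))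
    have hP := isAlgSpace_pullback (hYi i) (IsAlgSpace.yon_obj (W j)) hY (g i) k
    obtain ⟨E, a, ha, has⟩ := hP.atlas
    have sq := IsPullback.of_hasPullback (g i) k
    obtain ⟨π, hπ⟩ := (yon S).map_surjective (a ≫ pullback.snd (g i) k)
    have hπf : Flat π.left :=
      locP_of_isPullback (hYi i) hY (IsAlgSpace.yon_obj (W j)) sq (hτ.1 i) a (𝟙 _) π ha
        (AlgSp.repWith_id _ _) (by rw [Category.comp_id]; exact hπ.symm)
    have hlf : LocP @Flat (a ≫ pullback.fst (g i) k) :=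
      locP_comp (IsAlgSpace.yon_obj _) hP (hYi i)
        (locP_of_repWith (repWith_mono (fun _ _ φ (_ : Etale φ) => (inferInstance : Flat φ)) ha))
        (locP_of_isPullback (IsAlgSpace.yon_obj (W j)) hY (hYi i) sq.flip hk)
    let γ : (yon S).obj (W j) ⟶ pullback (g i) k := pullback.lift l (𝟙 _) (by rw [Category.id_comp]; exact e)
    obtain ⟨P, p₁, p₂, sqP⟩ := exists_isPullback_yon a γ ha.rep
    haveI : Etale p₂.left := etale_left (repWith_of_isPullback sqP ha)
    haveI : Surjective p₂.left := surjective_left (repWith_of_isPullback sqP has)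
    have hp : p₁ ≫ π = p₂ := (yon S).map_injective (by
      rw [Functor.map_comp, hπ, ← Category.assoc, sqP.w, Category.assoc, pullback.lift_snd, Category.comp_id])
    choose p hp₂ using p₂.left.surjective
    choose O hO hpO using fun w : (W j).left =>
      exists_isAffineOpen_mem_and_subset (U := ⊤) (x := p w) trivial
    obtain ⟨T, hT⟩ := isCompact_univ.elim_finite_subcover (fun w => p₂.left '' (O w : Set P.left))
      (fun w => p₂.left.isOpenMap _ (O w).2)
      (fun w _ => Set.mem_iUnion.2 ⟨w, p w, (hpO w).1, hp₂ w⟩)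
    let K : Set E.left := p₁.left '' ⋃ w ∈ T, (O w : Set P.left)
    have hK : IsCompact K := (T.finite_toSet.isCompact_biUnion fun w _ => (hO w).isCompact).image p₁.left.continuous
    obtain ⟨t, ht⟩ := hK.elim_finite_subcover (fun A : E.left.affineOpens => (A.1 : Set E.left)) (fun A => A.1.2)
      (fun x _ => by
        obtain ⟨A, hA, hxA, -⟩ := exists_isAffineOpen_mem_and_subset (U := ⊤) (x := x) trivial
        exact Set.mem_iUnion.2 ⟨⟨A, hA⟩, hxA⟩)
    refine ⟨i, E, π, a ≫ pullback.fst (g i) k, t, hπf, hlf, ?_, fun w => ?_⟩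
    · rw [Category.assoc, pullback.condition, ← Category.assoc, ← hπ, Functor.map_comp, Category.assoc]
    · obtain ⟨v, hv, z, hz, hzw⟩ : ∃ v ∈ T, ∃ z ∈ O v, p₂.left z = w := by
        obtain ⟨v, hv⟩ := Set.mem_iUnion.1 (hT (Set.mem_univ w))
        obtain ⟨hv, z, hz, hzw⟩ := Set.mem_iUnion.1 hv
        exact ⟨v, hv, z, hz, hzw⟩
      obtain ⟨A, hA⟩ := Set.mem_iUnion.1 (ht ⟨z, Set.mem_biUnion hv hz, rfl⟩)
      obtain ⟨hAt, hzA⟩ := Set.mem_iUnion.1 hA
      exact ⟨A, hAt, p₁.left z, hzA, by rw [← Scheme.Hom.comp_apply, ← Over.comp_left, hp]; exact hzw⟩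
  choose iw E π l t hπ hlf hle hcov using key
  refine ⟨Σ j : ULift.{u} (Fin m), ↥(t j.down), inferInstance,
    fun x => Over.mk (x.2.1.1.ι ≫ (E x.1.down).hom),
    fun x => (Over.homMk x.2.1.1.ι rfl : Over.mk (x.2.1.1.ι ≫ (E x.1.down).hom) ⟶ E x.1.down) ≫ π x.1.down ≫ c x.1.down,
    fun x => x.2.1.2, fun x => ?_, fun z => ?_, fun x => ?_⟩
  · haveI := hπ x.1.down
    haveI := hc x.1.down
    exact (inferInstance : Flat (x.2.1.1.ι ≫ (π x.1.down).left ≫ (c x.1.down).left))
  · obtain ⟨j, w, hw⟩ := hs z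
    obtain ⟨A, hA, y, hy, hyw⟩ := hcov j w
    refine ⟨⟨⟨j⟩, ⟨A, hA⟩⟩, ⟨y, hy⟩, ?_⟩
    change (A.1.ι ≫ (π j).left ≫ (c j).left) ⟨y, hy⟩ = z
    rw [Scheme.Hom.comp_apply, Scheme.Hom.comp_apply]
    exact (congrArg (c j).left hyw).trans hw
  · let jA : Over.mk (x.2.1.1.ι ≫ (E x.1.down).hom) ⟶ E x.1.down := Over.homMk x.2.1.1.ι rfl
    refine ⟨iw x.1.down, (yon S).map jA ≫ l x.1.down,
      locP_comp (IsAlgSpace.yon_obj _) (IsAlgSpace.yon_obj _) (hYi _)
        ((locP_yon_map_iff _).2 (inferInstanceAs (Flat x.2.1.1.ι))) (hlf x.1.down), ?_⟩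
    rw [Category.assoc, hle, ← Category.assoc, ← Functor.map_comp]

/-- The same, glued into one affine scheme. -/
theorem exists_flat_refinement {ι : Type u} {Y : Sp S} {Yi : ι → Sp S} {g : ∀ i, Yi i ⟶ Y}
    (hY : IsAlgSpace Y) (hYi : ∀ i, IsAlgSpace (Yi i)) (hτ : IsFpqcCover Yi g) (Z : Over S) [IsAffine Z.left]
    (h : (yon S).obj Z ⟶ Y) (hh : RepWith @Etale h) :
    ∃ (W : Over S) (c : W ⟶ Z) (J : Type u) (Wj : J → Over S) (s : ∀ j, Wj j ⟶ W),
      IsAffine W.left ∧ Flat c.left ∧ Surjective c.left ∧ (∀ j, IsOpenImmersion (s j).left) ∧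
      (∀ w : W.left, ∃ j, w ∈ Set.range (s j).left) ∧
      ∀ j, ∃ (i : ι) (l : (yon S).obj (Wj j) ⟶ Yi i), LocP @Flat l ∧ l ≫ g i = (yon S).map (s j ≫ c) ≫ h := by
  obtain ⟨J, hJ, W, c, hW, hc, hs, hl⟩ := exists_flat_family hY hYi hτ Z h hh
  let Wl : J → Scheme.{u} := fun j => (W j).left
  let V : Over S := Over.mk (Limits.Sigma.desc fun j : J => (W j).hom)
  let π : (∐ Wl) ⟶ Z.left := Limits.Sigma.desc fun j => (c j).left
  let cV : V ⟶ Z := Over.homMk π (by
    change π ≫ Z.hom = Limits.Sigma.desc _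
    refine Limits.Sigma.hom_ext _ _ fun j => ?_
    rw [← Category.assoc, Limits.Sigma.ι_desc, Limits.Sigma.ι_desc, Over.w])
  refine ⟨V, cV, J, W, fun j => Over.homMk (Limits.Sigma.ι Wl j) (by exact Limits.Sigma.ι_desc _ j), ?_, ?_, ?_,
    fun j => ?_, ?_, fun j => ?_⟩
  · have : ∀ j, IsAffine (Wl j) := hW
    exact inferInstanceAs (IsAffine (∐ Wl))
  · exact IsZariskiLocalAtSource.sigmaDesc (P := @Flat) hc
  · refine ⟨fun z => ?_⟩
    obtain ⟨j, y, hy⟩ := hs z
    refine ⟨Limits.Sigma.ι Wl j y, ?_⟩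
    change π _ = z
    rw [← Scheme.Hom.comp_apply, Limits.Sigma.ι_desc]
    exact hy
  · exact inferInstanceAs (IsOpenImmersion ((sigmaOpenCover Wl).f j))
  · exact fun w => (sigmaOpenCover Wl).exists_eq w
  · obtain ⟨i, l, hlf, e⟩ := hl j
    refine ⟨i, l, hlf, e.trans (congrArg (fun k => (yon S).map k ≫ h) (Over.OverMorphism.ext ?_))⟩
    exact (Limits.Sigma.ι_desc (f := Wl) (fun j => (c j).left) j).symm

end KoszSpace
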