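import Groth.Agent.CurvOpenLib.GorSpace
import Groth.Prelude.Def_AlgSpSub

/-!
# Descent of local Noetherianity of fibres over field points
-/

set_option autoImplicit false
set_option linter.style.haveILetI false
set_option backward.isDefEq.respectTransparency.types false
universe u

open CategoryTheory CategoryTheory.Limits AlgebraicGeometry AlgSp AlgSpLib Topology

namespace NoethFibre

/-- Local Noetherianity descends along flat affine surjections. -/
theorem isLocallyNoetherian_of_flat_affine {U W : Scheme.{u}} (g : W ⟶ U) [Flat g] [Surjective g] [IsAffineHom g]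
    [IsLocallyNoetherian W] : IsLocallyNoetherian U := by
  rw [isLocallyNoetherian_iff_of_affine_openCover U.affineCover]
  intro i
  let g' := pullback.snd g (U.affineCover.f i)
  haveI : IsAffine (pullback g (U.affineCover.f i)) := isAffine_of_isAffineHom g'
  haveI : IsLocallyNoetherian (pullback g (U.affineCover.f i)) :=
    LocallyOfFiniteType.isLocallyNoetherian (pullback.fst g (U.affineCover.f i))
  haveI : IsNoetherianRing Γ(pullback g (U.affineCover.f i), ⊤) :=
    IsLocallyNoetherian.component_noetherian ⟨⊤, isAffineOpen_top _⟩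
  algebraize [g'.appTop.hom]
  haveI : Module.FaithfullyFlat Γ(U.affineCover.X i, ⊤) Γ(pullback g (U.affineCover.f i), ⊤) := by
    change g'.appTop.hom.FaithfullyFlat
    rw [RingHom.FaithfullyFlat.iff_flat_and_comap_surjective]
    refine ⟨(HasRingHomProperty.iff_of_isAffine (P := @Flat)).1 inferInstance, ?_⟩
    have : Surjective (Spec.map g'.appTop) := by
      have : Surjective ((pullback g (U.affineCover.f i)).isoSpec.hom ≫ Spec.map g'.appTop) := by
        rw [Scheme.isoSpec_hom_naturality g']; infer_instance
      exact .of_comp (pullback g (U.affineCover.f i)).isoSpec.hom _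
    exact (Spec.map g'.appTop).surjective
  exact isNoetherianRing_of_faithfullyFlat Γ(U.affineCover.X i, ⊤) Γ(pullback g (U.affineCover.f i), ⊤)

variable {S : Scheme.{u}}

/-- Descent of locally Noetherian fibres through a common point. -/
theorem isLocNoethSp_fibre {F G : Sp S} (hF : IsAlgSpace F) (hG : IsAlgSpace G) (f : F ⟶ G) {A B E : Over S}
    (α : (yon S).obj A ⟶ G) (β : (yon S).obj B ⟶ G) (eA : E ⟶ A) (eB : E ⟶ B)
    (he : (yon S).map eA ≫ α = (yon S).map eB ≫ β) [LocallyOfFiniteType eA.left]
    [Flat eB.left] [Surjective eB.left] [IsAffineHom eB.left]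
    (hA : ∀ ⦃P : Sp S⦄ (fst : P ⟶ F) (snd : P ⟶ (yon S).obj A), IsPullback fst snd f α → IsLocNoethSp P)
    {Q : Sp S} {qf : Q ⟶ F} {qs : Q ⟶ (yon S).obj B} (hQ : IsPullback qf qs f β) : IsLocNoethSp Q := by
  have hQs : IsAlgSpace Q := isAlgSpace_of_isPullback hF (IsAlgSpace.yon_obj B) hG hQ
  have sqA := IsPullback.of_hasPullback f α
  have hPA := isAlgSpace_pullback hF (IsAlgSpace.yon_obj A) hG f α
  have sqEA := IsPullback.of_hasPullback (pullback.snd f α) ((yon S).map eA)
  have hPE := isAlgSpace_pullback hPA (IsAlgSpace.yon_obj E) (IsAlgSpace.yon_obj A) (pullback.snd f α) ((yon S).map eA)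
  have hEn : IsLocNoethSp (pullback (pullback.snd f α) ((yon S).map eA)) :=
    isLocNoethSp_of_lft hPE hPA (locP_of_isPullback (IsAlgSpace.yon_obj E) (IsAlgSpace.yon_obj A) hPA sqEA.flip
      ((locP_yon_map_iff _).2 ‹LocallyOfFiniteType eA.left›)) (hA _ _ sqA)
  have big : IsPullback (pullback.fst (pullback.snd f α) ((yon S).map eA) ≫ pullback.fst f α)
      (pullback.snd (pullback.snd f α) ((yon S).map eA)) f ((yon S).map eB ≫ β) := by
    rw [← he]; exact sqEA.paste_horiz sqA
  let l := hQ.lift (pullback.fst (pullback.snd f α) ((yon S).map eA) ≫ pullback.fst f α)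
    (pullback.snd (pullback.snd f α) ((yon S).map eA) ≫ (yon S).map eB) (big.w.trans (Category.assoc _ _ _).symm)
  have sqB : IsPullback l (pullback.snd (pullback.snd f α) ((yon S).map eA)) qs ((yon S).map eB) :=
    IsPullback.of_right (by rw [hQ.lift_fst]; exact big) (hQ.lift_snd _ _ _) hQ
  obtain ⟨U, a, ha, has⟩ := hQs.atlas
  obtain ⟨φ, hφ⟩ := (yon S).map_surjective (a ≫ qs)
  have sqU := (IsPullback.of_hasPullback φ eB).map (yon S)
  let m : (yon S).obj (pullback φ eB) ⟶ pullback (pullback.snd f α) ((yon S).map eA) :=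
    sqB.lift ((yon S).map (pullback.fst φ eB) ≫ a) ((yon S).map (pullback.snd φ eB))
      (by rw [Category.assoc, ← hφ]; exact sqU.w)
  have hm : IsPullback ((yon S).map (pullback.fst φ eB)) m a l := by
    refine IsPullback.of_bot ?_ (sqB.lift_fst _ _ _).symm sqB
    rw [sqB.lift_snd, ← hφ]
    exact sqU
  haveI : IsLocallyNoetherian (pullback φ eB).left :=
    isLocallyNoetherian_of_chart hEn (repWith_of_isPullback hm ha)
  have sqL := isPullback_left sqU
  haveI : Flat (pullback.fst φ eB).left := MorphismProperty.of_isPullback (P := @Flat) sqL.flip inferInstance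
  haveI : Surjective (pullback.fst φ eB).left := MorphismProperty.of_isPullback (P := @Surjective) sqL.flip inferInstance
  haveI : IsAffineHom (pullback.fst φ eB).left := MorphismProperty.of_isPullback (P := @IsAffineHom) sqL.flip inferInstance
  exact ⟨U, a, ha, has, isLocallyNoetherian_of_flat_affine (pullback.fst φ eB).left⟩

theorem surjective_flat_spec {L K : Type u} [Field L] [Field K] (φ : Spec (CommRingCat.of L) ⟶ Spec (CommRingCat.of K)) :
    Flat φ ∧ Surjective φ := by
  haveI : Subsingleton ↥(Spec (CommRingCat.of K)) := inferInstanceAs (Subsingleton (PrimeSpectrum K))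
  haveI : IsIntegral (Spec (CommRingCat.of K)) := inferInstance
  exact ⟨inferInstance, ⟨fun y => ⟨IsLocalRing.closedPoint L, Subsingleton.elim _ _⟩⟩⟩

end NoethFibre
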