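import Groth.Agent.CurvOpenLib.Basic
import Groth.Prelude.Def_AlgSpMor5

/-!
# Loci of good pointwise properties of morphisms of algebraic spaces
-/

set_option autoImplicit false
set_option linter.style.haveILetI false
set_option backward.isDefEq.respectTransparency.types false
universe u

open CategoryTheory CategoryTheory.Limits AlgebraicGeometry AlgSp AlgSpLib Topology

namespace CurvOpenLib

variable {Q : ∀ {U V : Scheme.{u}}, (U ⟶ V) → ↥U → Prop}
variable {S : Scheme.{u}} {F G : Sp S} {f : F ⟶ G}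

/-- Chart independence. -/
theorem locPAt_iff_chart (hQ : GoodProp Q) (hfl : LocP @Flat f) (hlfp : LocP @LocallyOfFinitePresentation f)
    {U V : Over S} {a : (yon S).obj U ⟶ F} {b : (yon S).obj V ⟶ G} {h : U ⟶ V}
    (ha : RepWith @Etale a) (hb : RepWith @Etale b) (e : a ≫ f = (yon S).map h ≫ b) (u : U.left) :
    LocPAt Q f (Points.ofPt a u) ↔ Q h.left u := by
  refine ⟨fun H => H a b h u ha hb e rfl, fun hq => ?_⟩
  intro U' V' a' b' h' u' ha' hb' e' hu
  obtain ⟨W, p, p', sqW⟩ := exists_isPullback_yon a a' ha.rep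
  obtain ⟨V'', q, q', sqV⟩ := exists_isPullback_yon b b' hb.rep
  obtain ⟨w, hw, hw'⟩ := (ofPt_eq_ofPt_iff sqW u u').1 hu.symm
  obtain ⟨k, hk⟩ := (yon S).map_surjective (sqV.lift ((yon S).map (p ≫ h)) ((yon S).map (p' ≫ h'))
    (by rw [Functor.map_comp, Functor.map_comp, Category.assoc, Category.assoc, ← e, ← e', reassoc_of% sqW.w]))
  have hkq : k ≫ q = p ≫ h := (yon S).map_injective (by rw [Functor.map_comp, hk, sqV.lift_fst])
  have hkq' : k ≫ q' = p' ≫ h' := (yon S).map_injective (by rw [Functor.map_comp, hk, sqV.lift_snd])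
  haveI : Etale p'.left := etale_left (repWith_of_isPullback sqW ha)
  haveI : Etale p.left := etale_left (repWith_of_isPullback sqW.flip ha')
  haveI : Etale q'.left := etale_left (repWith_of_isPullback sqV hb)
  haveI : Etale q.left := etale_left (repWith_of_isPullback sqV.flip hb')
  haveI : Flat h.left := hfl a b h ha hb e
  haveI : LocallyOfFinitePresentation h.left := hlfp a b h ha hb e
  haveI : Flat h'.left := hfl a' b' h' ha' hb' e'
  haveI : LocallyOfFinitePresentation h'.left := hlfp a' b' h' ha' hb' e'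
  have hpa : RepWith @Etale ((yon S).map p ≫ a) := repWith_comp (repWith_of_isPullback sqW.flip ha') ha
  have hqb : RepWith @Etale ((yon S).map q ≫ b) := repWith_comp (repWith_of_isPullback sqV.flip hb') hb
  have ek : ((yon S).map p ≫ a) ≫ f = (yon S).map k ≫ (yon S).map q ≫ b := by
    rw [Category.assoc, e, ← Category.assoc ((yon S).map k), ← Functor.map_comp, hkq, Functor.map_comp, Category.assoc]
  haveI : Flat k.left := hfl _ _ k hpa hqb ek
  haveI : LocallyOfFinitePresentation k.left := hlfp _ _ k hpa hqb ek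
  have h1 : k.left ≫ q.left = p.left ≫ h.left := congrArg CommaMorphism.left hkq
  have h2 : k.left ≫ q'.left = p'.left ≫ h'.left := congrArg CommaMorphism.left hkq'
  subst hw hw'
  have h3 : Q (p.left ≫ h.left) w := (hQ.srcEt p.left h.left w).2 hq
  rw [← h1] at h3
  have h4 : Q (k.left ≫ q'.left) w := (hQ.tgtEt k.left q'.left w).2 ((hQ.tgtEt k.left q.left w).1 h3)
  rw [h2] at h4
  exact (hQ.srcEt p'.left h'.left w).1 h4

theorem isOpen_locPAt (hQ : GoodProp Q) (hF : IsAlgSpace F) (hG : IsAlgSpace G) (hfl : LocP @Flat f)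
    (hlfp : LocP @LocallyOfFinitePresentation f) : IsOpen {x : Points F | LocPAt Q f x} := by
  obtain ⟨U, V, a, b, h, ha, has, hb, -, e⟩ := exists_chart hF hG f
  haveI : Flat h.left := hfl a b h ha hb e
  haveI : LocallyOfFinitePresentation h.left := hlfp a b h ha hb e
  rw [← (isQuotientMap_ofPt ha has).isOpen_preimage]
  convert hQ.isOpen h.left using 1
  exact Set.ext fun u => locPAt_iff_chart hQ hfl hlfp ha hb e u

theorem locPAt_baseChange_iff (hQ : GoodProp Q) (hF : IsAlgSpace F) (hG : IsAlgSpace G) {F' G' : Sp S}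
    (hG' : IsAlgSpace G') {g : G' ⟶ G} {fst : F' ⟶ F} {snd : F' ⟶ G'} (sq : IsPullback fst snd f g)
    (hfl : LocP @Flat f) (hlfp : LocP @LocallyOfFinitePresentation f) (x' : Points F') :
    LocPAt Q snd x' ↔ LocPAt Q f (Points.map fst x') := by
  obtain ⟨U, V, U', V', a, b, h, a', b', h', p, v, u', ha, hb, ha', hb', e, e', hsq, hu', hu, -⟩ :=
    exists_chart_baseChange hF hG hG' sq x'
  haveI : Flat h.left := hfl a b h ha hb e
  haveI : LocallyOfFinitePresentation h.left := hlfp a b h ha hb e
  have hfl' : LocP @Flat snd := locP_of_isPullback hF hG hG' sq hfl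
  have hlfp' : LocP @LocallyOfFinitePresentation snd := locP_of_isPullback hF hG hG' sq hlfp
  rw [← hu', locPAt_iff_chart hQ hfl' hlfp' ha' hb' e' u', hu', ← hu, locPAt_iff_chart hQ hfl hlfp ha hb e _]
  exact hQ.baseChange h.left v.left h'.left p.left hsq u'

end CurvOpenLib
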