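import Groth.Agent.CurvOpenLib.WhereLib
import Groth.Agent.AlgSpLib.UnrLocusBC
import Groth.Agent.AlgSpLib.FormalEtale
import Groth.Agent.AlgSpLib.MorPack
import Groth.Agent.AlgSpLib.SepLqfScheme
import Groth.Agent.AlgSpLib.UnivClosedQc
import Groth.Agent.AlgSpLib.Sep
import Groth.Agent.AlgSpLib.Iso

/-!
# Unramified points of morphisms of algebraic spaces; where a morphism is unramified, injective, closed
-/

set_option autoImplicit false
set_option linter.style.haveILetI false
set_option backward.isDefEq.respectTransparency.types false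
universe u

open CategoryTheory CategoryTheory.Limits AlgebraicGeometry AlgSp AlgSpLib Topology
open RichLib.UnrLocus

namespace UnrSpace

/-- The unramified points are those near which the morphism is unramified. -/
theorem srcEt {U' U V : Scheme.{u}} (a : U' ⟶ U) (h : U ⟶ V) [Etale a] [LocallyOfFiniteType h] (u' : U') :
    u' ∈ locus (a ≫ h) ↔ a u' ∈ locus h := by
  constructor
  · rintro ⟨W', hu', hl⟩
    let W : U.Opens := ⟨a.base '' W', a.isOpenMap _ W'.2⟩
    have e : W' ≤ a ⁻¹ᵁ W := fun z hz => ⟨z, hz, rfl⟩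
    refine ⟨W, ⟨u', hu', rfl⟩, ?_⟩
    let g : (W' : Scheme.{u}) ⟶ (W : Scheme.{u}) := a.resLE W W' e
    haveI : Etale g := by
      have : g ≫ W.ι = W'.ι ≫ a := Scheme.Hom.resLE_comp_ι a e
      haveI : Etale (g ≫ W.ι) := by rw [this]; infer_instance
      exact Etale.of_comp g W.ι
    haveI : Surjective g := ⟨fun ⟨w, z, hz, hzw⟩ => ⟨⟨z, hz⟩, Subtype.ext (by
      subst hzw
      exact congrArg (fun φ : (W' : Scheme.{u}) ⟶ U => φ.base ⟨z, hz⟩) (Scheme.Hom.resLE_comp_ι a e))⟩⟩
    refine (EtLocProp.srcDescent (P := (@LocallyOfFiniteType ⊓ @FormallyUnramified : MorphismProperty Scheme.{u}))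
      g (W.ι ≫ h) ⟨inferInstanceAs (LocallyOfFiniteType (g ≫ W.ι ≫ h)), ?_⟩).2
    rwa [← Category.assoc, Scheme.Hom.resLE_comp_ι, Category.assoc]
  · rintro ⟨W, hu, hl⟩
    refine ⟨a ⁻¹ᵁ W, hu, ?_⟩
    rw [← Category.assoc, ← a.resLE_comp_ι (le_refl (a ⁻¹ᵁ W)), Category.assoc]
    haveI : Etale (a.resLE W (a ⁻¹ᵁ W) le_rfl) := by
      haveI : Etale (a.resLE W (a ⁻¹ᵁ W) le_rfl ≫ W.ι) := by rw [Scheme.Hom.resLE_comp_ι]; infer_instance
      exact Etale.of_comp _ W.ι
    exact MorphismProperty.comp_mem _ _ _ inferInstance hl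

theorem tgtEt {U V W : Scheme.{u}} (h : U ⟶ V) (b : V ⟶ W) [Etale b] (u : U) :
    u ∈ locus (h ≫ b) ↔ u ∈ locus h := by
  refine exists_congr fun O => and_congr_right fun _ => ⟨fun H => ?_, fun H => ?_⟩
  · rw [← Category.assoc] at H
    exact FormallyUnramified.of_comp _ b
  · rw [← Category.assoc]
    exact MorphismProperty.comp_mem _ _ _ H inferInstance

variable {S : Scheme.{u}} {F G : Sp S} {f : F ⟶ G}

theorem isOpenMap_of_openImmersion {j : F ⟶ G} (hF : IsAlgSpace F) (hG : IsAlgSpace G)
    (hj : RepWith @IsOpenImmersion j) : IsOpenMap (Points.map j) :=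
  isUnivOpenMor_of_flat_lfp hF hG
    (locP_of_repWith (repWith_mono (fun _ _ g (_ : IsOpenImmersion g) => (inferInstance : Flat g)) hj))
    (locP_of_repWith (repWith_mono (fun _ _ g (_ : IsOpenImmersion g) =>
      (inferInstance : LocallyOfFinitePresentation g)) hj))
    hG (𝟙 G) (𝟙 F) j (IsPullback.of_horiz_isIso ⟨(Category.id_comp _).trans (Category.comp_id _).symm⟩)

/-- Unramified at a point, in all charts. -/
abbrev UnrAt (f : F ⟶ G) (x : Points F) : Prop := LocPAt (fun g z => z ∈ locus g) f x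

theorem locPAt_iff_chart (hlft : LocP @LocallyOfFiniteType f) {U V : Over S} {a : (yon S).obj U ⟶ F}
    {b : (yon S).obj V ⟶ G} {h : U ⟶ V}
    (ha : RepWith @Etale a) (hb : RepWith @Etale b) (e : a ≫ f = (yon S).map h ≫ b) (u : U.left) :
    UnrAt f (Points.ofPt a u) ↔ u ∈ locus h.left := by
  refine ⟨fun H => H a b h u ha hb e rfl, fun hq => ?_⟩
  intro U' V' a' b' h' u' ha' hb' e' hu
  obtain ⟨W, p, p', sqW⟩ := exists_isPullback_yon a a' ha.rep
  obtain ⟨V'', q, q', sqV⟩ := exists_isPullback_yon b b' hb.rep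
  obtain ⟨w, hw, hw'⟩ := (ofPt_eq_ofPt_iff sqW u u').1 hu.symm
  obtain ⟨k, hk⟩ := (yon S).map_surjective (sqV.lift ((yon S).map (p ≫ h)) ((yon S).map (p' ≫ h'))
    (by rw [Functor.map_comp, Functor.map_comp, Category.assoc, Category.assoc, ← e, ← e', reassoc_of% sqW.w]))
  have hkq : k ≫ q = p ≫ h := (yon S).map_injective (by rw [Functor.map_comp, hk, sqV.lift_fst])
  have hkq' : k ≫ q' = p' ≫ h' := (yon S).map_injective (by rw [Functor.map_comp, hk, sqV.lift_snd])
  haveI : Etale p'.left := etale_left (repWith_of_isPullback sqW ha)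
  haveI : Etale p.left := etale_left (repWith_of_isPullback sqW.flip ha')
  haveI : Etale q'.left := etale_left (repWith_of_isPullback sqV hb)
  haveI : Etale q.left := etale_left (repWith_of_isPullback sqV.flip hb')
  haveI : LocallyOfFiniteType h.left := hlft a b h ha hb e
  haveI : LocallyOfFiniteType h'.left := hlft a' b' h' ha' hb' e'
  have h1 : k.left ≫ q.left = p.left ≫ h.left := congrArg CommaMorphism.left hkq
  have h2 : k.left ≫ q'.left = p'.left ≫ h'.left := congrArg CommaMorphism.left hkq'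
  subst hw hw'
  have h3 : w ∈ locus (p.left ≫ h.left) := (srcEt p.left h.left w).2 hq
  rw [← h1] at h3
  have h4 : w ∈ locus (k.left ≫ q'.left) := (tgtEt k.left q'.left w).2 ((tgtEt k.left q.left w).1 h3)
  rw [h2] at h4
  exact (srcEt p'.left h'.left w).1 h4

theorem isOpen_unrAt (hF : IsAlgSpace F) (hG : IsAlgSpace G) (hlft : LocP @LocallyOfFiniteType f) :
    IsOpen {x : Points F | UnrAt f x} := by
  obtain ⟨U, V, a, b, h, ha, has, hb, -, e⟩ := exists_chart hF hG f
  rw [← (isQuotientMap_ofPt ha has).isOpen_preimage]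
  convert isOpen_locus h.left using 1
  exact Set.ext fun u => locPAt_iff_chart hlft ha hb e u

theorem unramified_iff (hlft : LocP @LocallyOfFiniteType f) :
    LocP (@LocallyOfFiniteType ⊓ @FormallyUnramified) f ↔ ∀ x, UnrAt f x :=
  ⟨fun H _ _ _ a b h u ha hb e _ => Set.eq_univ_iff_forall.1 ((locus_eq_univ_iff h.left).2 (H a b h ha hb e).2) u,
    fun H _ _ a b h ha hb e => ⟨hlft a b h ha hb e,
      (locus_eq_univ_iff h.left).1 (Set.eq_univ_of_forall fun u => H _ a b h u ha hb e rfl)⟩⟩

/-- The unramified points of a base change. -/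
theorem unrAt_baseChange (hF : IsAlgSpace F) (hG : IsAlgSpace G) {F' G' : Sp S} (hG' : IsAlgSpace G')
    {g : G' ⟶ G} {fst : F' ⟶ F} {snd : F' ⟶ G'} (sq : IsPullback fst snd f g)
    (hlft : LocP @LocallyOfFiniteType f) (x' : Points F') :
    UnrAt snd x' ↔ UnrAt f (Points.map fst x') := by
  obtain ⟨U, V, U', V', a, b, h, a', b', h', p, v, u', ha, hb, ha', hb', e, e', hsq, hu', hu, -⟩ :=
    exists_chart_baseChange hF hG hG' sq x'
  haveI : LocallyOfFiniteType h.left := hlft a b h ha hb e
  rw [← hu', locPAt_iff_chart (locP_of_isPullback hF hG hG' sq hlft) ha' hb' e' u', hu', ← hu,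
    locPAt_iff_chart hlft ha hb e _]
  exact mem_locus_baseChange_iff hsq u'

/-- The diagonal image of the unramified points is open. -/
theorem isOpen_diag_unrAt (hF : IsAlgSpace F) (hG : IsAlgSpace G) (hlft : LocP @LocallyOfFiniteType f) :
    IsOpen (Points.map (pullback.diagonal f) '' {x | UnrAt f x}) := by
  let O : Set (Points F) := {x | UnrAt f x}
  have hO : IsOpen O := isOpen_unrAt hF hG hlft
  let F' := openSub F O
  let j : F' ⟶ F := openSubι F O
  have hj : RepWith @IsOpenImmersion j := repWith_openSubι F hO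
  have hje := isEtaleMor_of_openImmersion hj
  have hF' : IsAlgSpace F' := isAlgSpace_openSub hF hO
  have hu : LocP (@LocallyOfFiniteType ⊓ @FormallyUnramified) (j ≫ f) := by
    refine (unramified_iff fun U V a b h ha hb e => hlft (a ≫ j) b h (hje a ha) hb
      ((Category.assoc _ _ _).trans e)).2 fun y => ?_
    intro U V a b h u ha hb e hu
    subst hu
    have hy : Points.map j (Points.ofPt a u) ∈ O := (range_openSubι F (W := O)).le (Set.mem_range_self _)
    exact hy (a ≫ j) b h u (hje a ha) hb ((Category.assoc _ _ _).trans e) (Points.map_ofPt _ _ _).symm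
  let m : pullback (j ≫ f) (j ≫ f) ⟶ pullback f f :=
    pullback.map (j ≫ f) (j ≫ f) f f j j (𝟙 G) (Category.comp_id _) (Category.comp_id _)
  have hm : RepWith @IsOpenImmersion m := MorphismProperty.pullbackMap hj hj rfl rfl
  have hd : RepWith @IsOpenImmersion (pullback.diagonal (j ≫ f) ≫ m) :=
    repWith_comp (openImmersion_diagonal_of_unramified hF' hG hu) hm
  have he : pullback.diagonal (j ≫ f) ≫ m = j ≫ pullback.diagonal f := by
    apply pullback.hom_ext <;>
      simp only [m, Category.assoc, pullback.diagonal_fst, pullback.diagonal_snd, pullback.lift_fst,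
        pullback.lift_snd, pullback.diagonal_fst_assoc, pullback.diagonal_snd_assoc, Category.comp_id]
  rw [he] at hd
  have hop := (isOpenMap_of_openImmersion hF' (isAlgSpace_pullback hF hF hG f f) hd).isOpen_range
  rwa [show Set.range (Points.map (j ≫ pullback.diagonal f)) = Points.map (pullback.diagonal f) '' O by
    rw [show Points.map (j ≫ pullback.diagonal f) = Points.map (pullback.diagonal f) ∘ Points.map j from
      funext (Points.map_comp _ _), Set.range_comp, range_openSubι]] at hop

end UnrSpace
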