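import Groth.Agent.CurvOpenLib.WhereLib

/-!
# Where a morphism over a base is flat and surjective
-/

set_option autoImplicit false
set_option linter.style.haveILetI false
set_option backward.isDefEq.respectTransparency.types false
universe u

open CategoryTheory CategoryTheory.Limits AlgebraicGeometry AlgSp AlgSpLib Topology

namespace WhereFlat

variable {S : Scheme.{u}} {X Y Z : AlgSp.Space S} {f : X ⟶ Y} {q : Y ⟶ Z}

/-- Points of the base above which `f` is flat and onto. -/
def flatSurjLocus (f : X ⟶ Y) (q : Y ⟶ Z) : Set (Points Z.obj) :=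
  (Points.map (f ≫ q).hom '' {x | IsFlatAtMor f.hom x}ᶜ ∪
    Points.map q.hom '' (Points.map f.hom '' {x | IsFlatAtMor f.hom x})ᶜ)ᶜ

theorem isOpen_flatSurjLocus (hp1 : LocP @LocallyOfFinitePresentation (f ≫ q).hom)
    (hp3 : IsClosedMor (f ≫ q).hom) (hq1 : LocP @LocallyOfFiniteType q.hom) (hq2 : IsClosedMor q.hom) :
    IsOpen (flatSurjLocus f q) :=
  have hf : LocP @LocallyOfFinitePresentation f.hom := locP_lfp_of_comp X.property Y.property Z.property hp1 hq1
  ((hp3 _ (FlatLib.isOpen_setOf_isFlatAtMor X.property Y.property hf).isClosed_compl).union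
    (hq2 _ (WhereLib.isOpen_image_flat X.property Y.property hf).isClosed_compl)).isOpen_compl

theorem flatSurj_bc_iff (hp1 : LocP @LocallyOfFinitePresentation (f ≫ q).hom) (hp2 : LocP @Flat (f ≫ q).hom)
    (hq1 : LocP @LocallyOfFiniteType q.hom) {Z' : AlgSp.Space S} {g : Z' ⟶ Z} (d : WhereLib.BC f q g) :
    (IsSurjectiveMor d.f'.hom ∧ LocP @Flat d.f'.hom) ↔ Set.range (Points.map g.hom) ⊆ flatSurjLocus f q := by
  let K : Set (Points X.obj) := {x | IsFlatAtMor f.hom x}
  have key : LocP @Flat d.f'.hom ↔ ∀ x', Points.map d.gX.hom x' ∈ K := by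
    rw [WhereLib.locP_flat_iff]
    exact forall_congr' fun x' => FlatLib.isFlatAtMor_baseChange X.property Y.property Z.property d.Y'.property
      Z'.property hp1 hp2 hq1 d.hY d.hX x'
  constructor
  · rintro ⟨hs, hfl⟩ _ ⟨z', rfl⟩ (hz | ⟨y, hy, hyz⟩)
    · exact (WhereLib.forall_mem_iff d K).1 (key.1 hfl) ⟨z', rfl⟩ hz
    · obtain ⟨y', hy'⟩ := WhereLib.exists_point_Y d hyz
      obtain ⟨x', hx'⟩ := hs y'
      refine hy ⟨Points.map d.gX.hom x', key.1 hfl x', ?_⟩
      rw [← hy', ← hx', ← Points.map_comp, ← Points.map_comp, d.hX.w]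
  · intro H
    refine ⟨fun y' => ?_, key.2 ((WhereLib.forall_mem_iff d K).2 fun z hz hz' => H hz (Or.inl hz'))⟩
    obtain ⟨x, -, hx⟩ : ∃ x ∈ K, Points.map f.hom x = Points.map d.gY.hom y' := by
      by_contra hn
      refine H ⟨Points.map d.q'.hom y', rfl⟩ (Or.inr ⟨Points.map d.gY.hom y', hn, ?_⟩)
      rw [← Points.map_comp, ← Points.map_comp, d.hY.w]
    obtain ⟨x', -, hx'⟩ := exists_point_isPullback d.hX x y' hx
    exact ⟨x', hx'⟩

end WhereFlat
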