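import Groth.Agent.FlatLib.FlatLocusSpace
import Groth.Agent.AlgSpLib.Noeth
import Groth.Agent.AlgSpLib.HasAt
import Groth.Prelude.Def_AlgSp4

/-!
# Loci of the base over which a condition on a morphism over it holds
-/

set_option autoImplicit false
set_option linter.style.haveILetI false
set_option backward.isDefEq.respectTransparency.types false
universe u

open CategoryTheory CategoryTheory.Limits AlgebraicGeometry AlgSp AlgSpLib Topology

namespace WhereLib

variable {S : Scheme.{u}} {X Y Z : AlgSp.Space S} {f : X ⟶ Y} {q : Y ⟶ Z}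

/-- The base change data of `f` along `g : Z' ⟶ Z`. -/
structure BC (f : X ⟶ Y) (q : Y ⟶ Z) {Z' : AlgSp.Space S} (g : Z' ⟶ Z) where
  Y' : AlgSp.Space S
  gY : Y' ⟶ Y
  q' : Y' ⟶ Z'
  hY : IsPullback gY.hom q'.hom q.hom g.hom
  X' : AlgSp.Space S
  gX : X' ⟶ X
  f' : X' ⟶ Y'
  hX : IsPullback gX.hom f'.hom f.hom gY.hom

theorem nonempty_bc (f : X ⟶ Y) (q : Y ⟶ Z) {Z' : AlgSp.Space S} (g : Z' ⟶ Z) : Nonempty (BC f q g) :=
  let Y' : AlgSp.Space S := ⟨_, isAlgSpace_pullback Y.property Z'.property Z.property q.hom g.hom⟩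
  let gY : Y' ⟶ Y := ObjectProperty.homMk (pullback.fst q.hom g.hom)
  let X' : AlgSp.Space S := ⟨_, isAlgSpace_pullback X.property Y'.property Y.property f.hom gY.hom⟩
  ⟨⟨Y', gY, ObjectProperty.homMk (pullback.snd q.hom g.hom), IsPullback.of_hasPullback _ _, X',
    ObjectProperty.homMk (pullback.fst f.hom gY.hom), ObjectProperty.homMk (pullback.snd f.hom gY.hom),
    IsPullback.of_hasPullback _ _⟩⟩

theorem map_eq {Z' : AlgSp.Space S} {g : Z' ⟶ Z} (d : BC f q g) (x' : Points d.X'.obj) :
    Points.map g.hom (Points.map d.q'.hom (Points.map d.f'.hom x')) =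
      Points.map (f ≫ q).hom (Points.map d.gX.hom x') := by
  rw [← Points.map_comp, ← Points.map_comp, ← Points.map_comp, d.hY.w.symm, ← Category.assoc, ← d.hX.w,
    Category.assoc]
  rfl

theorem exists_point_Y {Z' : AlgSp.Space S} {g : Z' ⟶ Z} (d : BC f q g) {y : Points Y.obj} {z' : Points Z'.obj}
    (h : Points.map q.hom y = Points.map g.hom z') : ∃ y', Points.map d.gY.hom y' = y :=
  (exists_point_isPullback d.hY y z' h).imp fun _ h => h.1

theorem exists_point_X {Z' : AlgSp.Space S} {g : Z' ⟶ Z} (d : BC f q g) {x : Points X.obj} {z' : Points Z'.obj}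
    (h : Points.map (f ≫ q).hom x = Points.map g.hom z') : ∃ x', Points.map d.gX.hom x' = x := by
  obtain ⟨y', hy', -⟩ := exists_point_isPullback d.hY (Points.map f.hom x) z'
    (by rw [← h, ← Points.map_comp]; rfl)
  exact (exists_point_isPullback d.hX x y' hy'.symm).imp fun _ h => h.1

/-- The base change lies over the good locus exactly when `g` avoids the image of the bad points. -/
theorem forall_mem_iff {Z' : AlgSp.Space S} {g : Z' ⟶ Z} (d : BC f q g) (K : Set (Points X.obj)) :
    (∀ x', Points.map d.gX.hom x' ∈ K) ↔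
      Set.range (Points.map g.hom) ⊆ (Points.map (f ≫ q).hom '' Kᶜ)ᶜ := by
  constructor
  · rintro H _ ⟨z', rfl⟩ ⟨x, hx, hxz⟩
    obtain ⟨x', hx'⟩ := exists_point_X d hxz
    exact hx (hx' ▸ H x')
  · intro H x'
    by_contra hx
    exact H ⟨_, map_eq d x'⟩ ⟨_, hx, rfl⟩

/-- The open subspace of the base with given points, and the maps factoring through it. -/
theorem exists_open (Z : AlgSp.Space S) {O : Set (Points Z.obj)} (hO : IsOpen O) :
    ∃ (W : AlgSp.Space S) (w : W ⟶ Z), RepWith @IsOpenImmersion w.hom ∧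
      ∀ (Z' : AlgSp.Space S) (g : Z' ⟶ Z), (∃ k : Z' ⟶ W, k ≫ w = g) ↔ Set.range (Points.map g.hom) ⊆ O := by
  refine ⟨⟨_, isAlgSpace_openSub Z.property hO⟩, ObjectProperty.homMk (openSubι Z.obj O),
    repWith_openSubι Z.obj hO, fun Z' g => ?_⟩
  have hfac := exists_factor_iff (repWith_openSubι Z.obj hO) g.hom
  rw [range_openSubι] at hfac
  rw [← hfac]
  exact ⟨fun ⟨k, hk⟩ => ⟨k.hom, congrArg (fun φ : Z' ⟶ Z => φ.hom) hk⟩,
    fun ⟨k, hk⟩ => ⟨ObjectProperty.homMk k, ObjectProperty.hom_ext _ hk⟩⟩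

/-- Flatness is flatness at all points. -/
theorem locP_flat_iff {F G : Sp S} (f : F ⟶ G) : LocP @Flat f ↔ ∀ x, IsFlatAtMor f x :=
  ⟨fun H _ _ _ a b h u ha hb e _ => @Flat.stalkMap _ _ h.left (H a b h ha hb e) u, fun H _ _ a b h ha hb e =>
    (Flat.iff_flat_stalkMap h.left).2 fun u => H _ a b h u ha hb e rfl⟩

/-- The image of the flat locus of a finitely presented morphism is open. -/
theorem isOpen_image_flat {F G : Sp S} (hF : IsAlgSpace F) (hG : IsAlgSpace G) {f : F ⟶ G}
    (hf : LocP @LocallyOfFinitePresentation f) :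
    IsOpen (Points.map f '' {x | IsFlatAtMor f x}) := by
  let O : Set (Points F) := {x | IsFlatAtMor f x}
  have hO : IsOpen O := FlatLib.isOpen_setOf_isFlatAtMor hF hG hf
  have hj := repWith_openSubι F hO
  have hje := isEtaleMor_of_openImmersion hj
  have h1 : LocP @Flat (openSubι F O ≫ f) := by
    rw [locP_flat_iff]
    intro y U V a b h u ha hb e hu
    subst hu
    have hy : Points.map (openSubι F O) (Points.ofPt a u) ∈ O :=
      (range_openSubι F (W := O)).le (Set.mem_range_self _)
    exact hy (a ≫ openSubι F O) b h u (hje a ha) hb (by rw [Category.assoc]; exact e) (Points.map_ofPt _ _ _).symm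
  have h2 : LocP @LocallyOfFinitePresentation (openSubι F O ≫ f) := fun _ _ a b h ha hb e =>
    hf (a ≫ openSubι F O) b h (hje a ha) hb (by rw [Category.assoc]; exact e)
  have hom : IsOpenMap (Points.map (openSubι F O ≫ f)) := isUnivOpenMor_of_flat_lfp (isAlgSpace_openSub hF hO) hG h1 h2
    hG (𝟙 G) (𝟙 _) _ (IsPullback.of_horiz_isIso ⟨(Category.id_comp _).trans (Category.comp_id _).symm⟩)
  have := hom.isOpen_range
  rwa [show Set.range (Points.map (openSubι F O ≫ f)) = Points.map f '' O by
    rw [show Points.map (openSubι F O ≫ f) = Points.map f ∘ Points.map (openSubι F O) from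
      funext (Points.map_comp _ _), Set.range_comp, range_openSubι]] at this

end WhereLib
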