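import Groth.Agent.CurvOpenLib.UnrSpace

/-!
# Where a morphism over a base is unramified, universally injective, a closed immersion
-/

set_option autoImplicit false
set_option linter.style.haveILetI false
set_option backward.isDefEq.respectTransparency.types false
universe u

open CategoryTheory CategoryTheory.Limits AlgebraicGeometry AlgSp AlgSpLib Topology

namespace WhereUnr

variable {S : Scheme.{u}} {X Y Z : AlgSp.Space S} {f : X ⟶ Y} {q : Y ⟶ Z}

/-- Points of the base above which `f` is unramified. -/
def unrLocus (f : X ⟶ Y) (q : Y ⟶ Z) : Set (Points Z.obj) :=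
  (Points.map (f ≫ q).hom '' {x | UnrSpace.UnrAt f.hom x}ᶜ)ᶜ

/-- Points of the base above which the diagonal of `f` is onto. -/
def injLocus (f : X ⟶ Y) (q : Y ⟶ Z) : Set (Points Z.obj) :=
  (Points.map (pullback.snd f.hom f.hom ≫ (f ≫ q).hom) ''
    (Points.map (pullback.diagonal f.hom) '' {x | UnrSpace.UnrAt f.hom x})ᶜ)ᶜ

theorem lft_of_comp' (hp1 : LocP @LocallyOfFiniteType (f ≫ q).hom) : LocP @LocallyOfFiniteType f.hom :=
  locP_of_comp (fun h k hk => lft_of_comp h k hk) X.property Y.property Z.property hp1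

theorem isOpen_unrLocus (hp1 : LocP @LocallyOfFiniteType (f ≫ q).hom) (hp2 : IsClosedMor (f ≫ q).hom) :
    IsOpen (unrLocus f q) :=
  (hp2 _ (UnrSpace.isOpen_unrAt X.property Y.property (lft_of_comp' hp1)).isClosed_compl).isOpen_compl

theorem unramified_bc_iff (hp1 : LocP @LocallyOfFiniteType (f ≫ q).hom) {Z' : AlgSp.Space S} {g : Z' ⟶ Z}
    (d : WhereLib.BC f q g) :
    LocP (@LocallyOfFiniteType ⊓ @FormallyUnramified) d.f'.hom ↔ Set.range (Points.map g.hom) ⊆ unrLocus f q := by
  rw [UnrSpace.unramified_iff (locP_of_isPullback X.property Y.property d.Y'.property d.hX (lft_of_comp' hp1)),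
    unrLocus, ← WhereLib.forall_mem_iff d]
  exact forall_congr' fun x' => UnrSpace.unrAt_baseChange X.property Y.property d.Y'.property d.hX (lft_of_comp' hp1) x'

theorem isOpen_injLocus (hp1 : LocP @LocallyOfFiniteType (f ≫ q).hom)
    (hp3 : IsClosedMap (Points.map (pullback.snd f.hom f.hom ≫ (f ≫ q).hom))) : IsOpen (injLocus f q) :=
  (hp3 _ (UnrSpace.isOpen_diag_unrAt X.property Y.property (lft_of_comp' hp1)).isClosed_compl).isOpen_compl

theorem unrInj_bc_iff (hp1 : LocP @LocallyOfFiniteType (f ≫ q).hom) {Z' : AlgSp.Space S} {g : Z' ⟶ Z}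
    (d : WhereLib.BC f q g) :
    (LocP (@LocallyOfFiniteType ⊓ @FormallyUnramified) d.f'.hom ∧ IsUnivInjectiveMor d.f'.hom) ↔
      Set.range (Points.map g.hom) ⊆ unrLocus f q ∩ injLocus f q := by
  rw [Set.subset_inter_iff, unramified_bc_iff hp1 d, univInjective_iff_surjective_diagonal d.X'.property]
  refine and_congr_right fun hu => ⟨fun hs => ?_, fun H z => ?_⟩
  · rintro _ ⟨z', rfl⟩ ⟨w, hw, hwz⟩
    obtain ⟨y', hy', -⟩ := exists_point_isPullback d.hY (Points.map (pullback.snd f.hom f.hom ≫ f.hom) w) z'
      (by rw [← hwz, ← Points.map_comp, Category.assoc]; rfl)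
    have sqP := IsPullback.of_hasPullback (pullback.snd f.hom f.hom ≫ f.hom) d.gY.hom
    obtain ⟨t, ht, -⟩ := exists_point_isPullback sqP w y' hy'.symm
    let fstP := pullback.fst (pullback.snd f.hom f.hom ≫ f.hom) d.gY.hom
    let sndP := pullback.snd (pullback.snd f.hom f.hom ≫ f.hom) d.gY.hom
    let l₀ := d.hX.lift (fstP ≫ pullback.fst f.hom f.hom) sndP
      (by rw [Category.assoc, pullback.condition]; exact sqP.w)
    let l₁ := d.hX.lift (fstP ≫ pullback.snd f.hom f.hom) sndP (by rw [Category.assoc]; exact sqP.w)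
    let L : pullback (pullback.snd f.hom f.hom ≫ f.hom) d.gY.hom ⟶ pullback d.f'.hom d.f'.hom :=
      pullback.lift l₀ l₁ (by rw [d.hX.lift_snd, d.hX.lift_snd])
    obtain ⟨x', hx'⟩ := hs (Points.map L t)
    let μ := pullback.map d.f'.hom d.f'.hom f.hom f.hom d.gX.hom d.gX.hom d.gY.hom d.hX.w.symm d.hX.w.symm
    have hμ : L ≫ μ = fstP := by
      apply pullback.hom_ext
      · simp only [μ, L, l₀, Category.assoc, pullback.lift_fst, pullback.lift_fst_assoc, d.hX.lift_fst]
      · simp only [μ, L, l₁, Category.assoc, pullback.lift_snd, pullback.lift_snd_assoc, d.hX.lift_fst]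
    refine hw ⟨Points.map d.gX.hom x', (WhereLib.forall_mem_iff d _).2 hu x', ?_⟩
    rw [← Points.map_comp, (isPullback_diagonal d.hX).w, Points.map_comp, hx', ← Points.map_comp, hμ, ht]
  · let μ := pullback.map d.f'.hom d.f'.hom f.hom f.hom d.gX.hom d.gX.hom d.gY.hom d.hX.w.symm d.hX.w.symm
    have hk : Points.map μ z ∈ Points.map (pullback.diagonal f.hom) '' {x | UnrSpace.UnrAt f.hom x} := by
      by_contra hk
      refine H ⟨_, WhereLib.map_eq d (Points.map (pullback.snd d.f'.hom d.f'.hom) z)⟩ ⟨_, hk, ?_⟩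
      rw [← Points.map_comp, ← Points.map_comp, ← Category.assoc, show μ ≫ pullback.snd f.hom f.hom =
        pullback.snd d.f'.hom d.f'.hom ≫ d.gX.hom from pullback.lift_snd _ _ _, Category.assoc]
      exact Points.map_comp _ _ _
    obtain ⟨x, -, hx⟩ := hk
    have : z ∈ Set.range (Points.map (pullback.diagonal d.f'.hom)) := by
      rw [range_map_of_isPullback (isPullback_diagonal d.hX)]
      exact ⟨x, hx⟩
    exact this

/-- A separated universally closed unramified and universally injective morphism is a closed immersion. -/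
theorem closedImmersion_iff {F G : Sp S} (hF : IsAlgSpace F) (hG : IsAlgSpace G) {f : F ⟶ G}
    (hlft : LocP @LocallyOfFiniteType f) (huc : IsUnivClosedMor f) :
    RepWith @IsClosedImmersion f ↔
      LocP (@LocallyOfFiniteType ⊓ @FormallyUnramified) f ∧ IsUnivInjectiveMor f := by
  constructor
  · intro hc
    haveI : Mono f := mono_of_repWith (fun g (_ : IsClosedImmersion g) => inferInstance) hc
    haveI hd : IsIso (pullback.diagonal f) := inferInstance
    refine ⟨unramified_of_lft_of_diagonal hlft ?_, (univInjective_iff_surjective_diagonal hF).2 ?_⟩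
    · exact (RepWith @IsOpenImmersion).of_isIso _
    · exact isSurjectiveMor_of_isIso _
  · rintro ⟨hu, hi⟩
    haveI : IsIso (pullback.diagonal f) := isIso_of_openImmersion_surjective
      (openImmersion_diagonal_of_unramified hF hG hu) ((univInjective_iff_surjective_diagonal hF).1 hi)
    haveI : Mono f := (pullback.isIso_diagonal_iff f).1 inferInstance
    have hsep : IsSeparatedMor f := (RepWith @IsClosedImmersion).of_isIso _
    have hlqf : LocP (@LocallyQuasiFinite ⊓ @LocallyOfFiniteType) f := fun _ _ a b h ha hb e => by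
      obtain ⟨(_ : LocallyOfFiniteType h.left), (_ : FormallyUnramified h.left)⟩ := hu a b h ha hb e
      exact ⟨locallyQuasiFinite_of_unramified h.left, inferInstance⟩
    have hr : Representable f := representable_of_sep_lqf hF hG hsep hlqf
    refine ⟨hr, fun T W g fst snd sq => ?_⟩
    haveI : UniversallyClosed snd.left :=
      ((isUnivClosedMor_iff_repWith hF hG hr).2 huc).property g fst snd sq
    haveI : LocallyOfFiniteType snd.left := locP_yon_map (locP_of_isPullback hF hG (IsAlgSpace.yon_obj T) sq hlft)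
    haveI : Mono ((yon S).map snd) := sq.mono_snd_of_mono
    haveI : Mono snd := (yon S).mono_of_mono_map inferInstance
    haveI : Mono snd.left := inferInstanceAs (Mono ((Over.forget S).map snd))
    exact (IsClosedImmersion.iff_isProper_and_mono snd.left).2 ⟨{}, inferInstance⟩

end WhereUnr
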